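import Cfsg.Agent.Lib.Spor.SuzThree.Torus

/-!
The conjugates of the element in the elementary abelian subgroup of order 243: there are twenty two of them, one
pair over each point of the first kind.
-/

set_option autoImplicit false
set_option maxRecDepth 100000

namespace Cfsg.Agent.Spor.SuzThree

open Cfsg.Agent.Spor.U43
open Cfsg.Agent.Spor.SpFour (F4)

universe u

namespace Cover

variable {G : Type u} [Group G] [Finite G] (T : Cover G)

/-- conjugation of involutions in the centraliser -/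
theorem invol_L {t t' : G} (ht : Commute t T.y) (ht' : Commute t' T.y) (h2 : t * t = 1) (h2' : t' * t' = 1)
    (h1 : t ≠ 1) (h1' : t' ≠ 1) : ∃ l : G, Commute l T.y ∧ l * t * l⁻¹ = t' := by
  have key : ∀ t : G, Commute t T.y → t * t = 1 → t ≠ 1 → ∃ l : T.L, ∃ h : (l : G) * t * (l : G)⁻¹ ∈ T.L,
      T.f ⟨_, h⟩ = pi1 iotaK := by
    intro t ht h2 h1
    obtain ⟨x, hx⟩ : T.f ⟨t, T.mem_L.mpr ht⟩ ∈ U280 := by rw [← T.range]; exact ⟨_, rfl⟩
    have hne : pi1 x ≠ 1 := fun e => by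
      obtain ⟨k, hk⟩ := Subgroup.mem_zpowers_iff.mp ((T.ker ⟨t, T.mem_L.mpr ht⟩).mp (hx.symm.trans e))
      have h3 : t ^ 3 = 1 := by
        show t ^ 3 = 1
        rw [← show T.y ^ k = t from hk, ← zpow_natCast, ← zpow_mul, mul_comm, zpow_mul, zpow_natCast, T.y3, one_zpow]
      rw [pow_succ, sq, h2, one_mul] at h3
      exact h1 h3
    obtain ⟨g, hg⟩ := invol_conj (x := x) (by
      rw [hx, ← map_mul, show (⟨t, T.mem_L.mpr ht⟩ : T.L) * ⟨t, T.mem_L.mpr ht⟩ = 1 from Subtype.ext h2, map_one]) hne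
    obtain ⟨l, hl⟩ := T.exists_lift (σ := pi1 g) ⟨g, rfl⟩
    refine ⟨l, mul_mem (mul_mem l.2 (T.mem_L.mpr ht)) (inv_mem l.2), ?_⟩
    rw [T.conj_f l (T.mem_L.mpr ht), hl, ← hx, ← map_inv, ← map_mul, ← map_mul, hg]
  obtain ⟨l, h, e⟩ := key t ht h2 h1
  obtain ⟨l', h', e'⟩ := key t' ht' h2' h1'
  obtain ⟨k, hk⟩ := T.A_of_eq (e.trans e'.symm)
  change (l : G) * t * (l : G)⁻¹ = (l' : G) * t' * (l' : G)⁻¹ * T.y ^ k at hk
  have hcy : Commute ((l' : G) * t' * (l' : G)⁻¹) (T.y ^ k) := (T.mem_L.mp h').zpow_right k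
  have hsq : (T.y ^ k) ^ 2 = 1 := by
    have e1 : ((l : G) * t * (l : G)⁻¹) ^ 2 = 1 := by rw [conj_pow, sq, h2, mul_one, mul_inv_cancel]
    rw [hk, hcy.mul_pow, conj_pow, sq t', h2', mul_one, mul_inv_cancel, one_mul] at e1
    exact e1
  have h3 : (T.y ^ k) ^ 3 = 1 := by rw [← zpow_natCast, ← zpow_mul, mul_comm, zpow_mul, zpow_natCast, T.y3, one_zpow]
  rw [pow_succ, hsq, one_mul] at h3
  rw [h3, mul_one] at hk
  refine ⟨(l' : G)⁻¹ * l, ((T.y_comm l').inv_left).mul_left (T.y_comm l), ?_⟩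
  rw [show (l' : G)⁻¹ * l * t * ((l' : G)⁻¹ * l)⁻¹ = (l' : G)⁻¹ * ((l : G) * t * (l : G)⁻¹) * l' by group, hk]
  group

/-- the image of an element of the centraliser -/
noncomputable def fA (a : G) : Equiv.Perm (Fin 280) := by
  classical exact if h : Commute a T.y then T.f ⟨a, T.mem_L.mpr h⟩ else 1

theorem fA_eq {a : G} (h : a ∈ T.L) : T.fA a = T.f ⟨a, h⟩ := by rw [fA, dif_pos (T.mem_L.mp h)]

theorem fA_Dbar {a : G} (h : a ∈ T.A) : T.fA a ∈ Dbar := by
  obtain ⟨hL, hD⟩ := T.mem_A.mp h; rw [T.fA_eq hL]; exact hD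

theorem fA_one_iff {a : G} (h : a ∈ T.L) : T.fA a = 1 ↔ a ∈ Subgroup.zpowers T.y := by
  rw [T.fA_eq h, T.ker]

theorem fA_conj (g : T.L) {a : G} (ha : a ∈ T.L) :
    T.fA ((g : G) * a * (g : G)⁻¹) = T.f g * T.fA a * (T.f g)⁻¹ := by
  rw [T.fA_eq ha, T.fA_eq (mul_mem (mul_mem g.2 ha) (inv_mem g.2)), T.conj_f g ha]

theorem card_δ_fibre (e0 : Fin 243) : (Finset.univ.filter fun e => δ e = δ e0).card = 3 := by
  classical
  have hok : ∀ c ∈ [F4.i, F4.w, F4.v], okV (fun j => c * fv e0 j) = true := by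
    intro c hc
    have hc0 : c ≠ 0 := by fin_cases hc <;> decide
    have h0 := (decide_eq_true_iff).mp (fv_ok e0).1
    rw [okV, decide_eq_true_iff]
    refine ⟨fun j => mul_ne_zero hc0 (h0.1 j), ?_⟩
    have h6 : c * c * c * c * c * c = 1 := by revert hc0; cases c <;> decide
    calc c * fv e0 0 * (c * fv e0 1) * (c * fv e0 2) * (c * fv e0 3) * (c * fv e0 4) * (c * fv e0 5)
        = c * c * c * c * c * c * (fv e0 0 * fv e0 1 * fv e0 2 * fv e0 3 * fv e0 4 * fv e0 5) := by ring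
      _ = 1 := by rw [h6, h0.2, one_mul]
  set cs : Finset F4 := {F4.i, F4.w, F4.v} with hcs
  have himg : (Finset.univ.filter fun e => δ e = δ e0) = cs.image fun c => ev fun j => c * fv e0 j := by
    ext e
    simp only [Finset.mem_filter, Finset.mem_univ, true_and, Finset.mem_image]
    constructor
    · intro h
      obtain ⟨c, hc, hj⟩ := δ_eq.mp h
      refine ⟨c, ?_, ?_⟩
      · revert hc; rw [hcs]; cases c <;> decide
      · rw [← funext hj]; exact (fv_ok e).2
    · rintro ⟨c, hc, rfl⟩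
      have hc' : c ∈ [F4.i, F4.w, F4.v] := by simpa [hcs] using hc
      exact δ_eq.mpr ⟨c, by revert hc'; cases c <;> decide, fun j => by rw [fv_ev (hok c hc')]⟩
  rw [himg, Finset.card_image_of_injOn]
  · rw [hcs]; decide
  · intro a ha b hb h
    have ha' : a ∈ [F4.i, F4.w, F4.v] := by simpa [hcs] using ha
    have hb' : b ∈ [F4.i, F4.w, F4.v] := by simpa [hcs] using hb
    have h' := congrFun (congrArg fv h) 0
    rw [fv_ev (hok a ha'), fv_ev (hok b hb')] at h'
    exact mul_right_cancel₀ (((decide_eq_true_iff).mp (fv_ok e0).1).1 0) h'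

theorem card_filter_δ {a : G} (h : a ∈ T.A) : (Finset.univ.filter fun e => δ e = T.fA a).card = 3 := by
  obtain ⟨e0, he⟩ := mem_Dbar.mp (T.fA_Dbar h)
  rw [← he]
  exact card_δ_fibre e0

/-- the conjugates of the element in the subgroup -/
def good : Set G := {a | a ∈ T.A ∧ IsConj T.y a}

/-- the counting function -/
noncomputable def mult (e : Fin 243) : ℕ := {a | a ∈ T.good ∧ T.fA a = δ e}.ncard

theorem sum_mult (P : Fin 243 → Bool) (hP : ∀ e e', δ e = δ e' → P e = P e') :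
    ∑ e ∈ Finset.univ.filter (fun e => P e = true), T.mult e =
      3 * {a | a ∈ T.good ∧ ∃ e, δ e = T.fA a ∧ P e = true}.ncard := by
  classical
  haveI : Fintype G := Fintype.ofFinite G
  set s : Finset G := Finset.univ.filter fun a => a ∈ T.good with hs
  have hm : ∀ e, T.mult e = ∑ a ∈ s, if δ e = T.fA a then 1 else 0 := fun e => by
    rw [← Finset.card_filter, mult, Set.ncard_eq_toFinset_card']
    congr 1
    ext a
    simp [hs, eq_comm]
  simp only [hm]
  rw [Finset.sum_comm]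
  have h3 : ∀ a ∈ s, (∑ e ∈ Finset.univ.filter (fun e => P e = true), if δ e = T.fA a then 1 else 0) =
      if (∃ e, δ e = T.fA a ∧ P e = true) then 3 else 0 := by
    intro a ha
    rw [← Finset.card_filter, Finset.filter_filter]
    by_cases hex : ∃ e, δ e = T.fA a ∧ P e = true
    · obtain ⟨e1, he1, hp1⟩ := hex
      rw [if_pos ⟨e1, he1, hp1⟩]
      rw [← T.card_filter_δ (Finset.mem_filter.mp ha).2.1]
      congr 1
      ext e
      simp only [Finset.mem_filter, Finset.mem_univ, true_and]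
      exact ⟨fun h => h.2, fun h => ⟨(hP e e1 (h.trans he1.symm)).trans hp1, h⟩⟩
    · rw [if_neg hex, Finset.card_eq_zero, Finset.filter_eq_empty_iff]
      exact fun e _ h => hex ⟨e, h.2, h.1⟩
  rw [Finset.sum_congr rfl h3, ← Finset.sum_filter, Finset.sum_const, smul_eq_mul, mul_comm,
    Set.ncard_eq_toFinset_card']
  congr 1
  congr 1
  ext a
  simp [hs]

theorem mult_inv {p : Equiv.Perm (Fin 6)} (hp : Equiv.Perm.sign p = 1) {e e' : Fin 243}
    (h : SEq (fv e') (rotV p (fv e))) : T.mult e' = T.mult e := by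
  obtain ⟨g, hg⟩ := T.exists_lift (σ := pi1 (kP p hp)) ⟨_, rfl⟩
  have hconj : δ e' = T.f g * δ e * (T.f g)⁻¹ := by rw [hg, δ_conj hp h]
  have hN : ∀ g : T.L, T.f g ∈ Mbar → ∀ a ∈ T.A, (g : G) * a * (g : G)⁻¹ ∈ T.A := fun g h =>
    (T.normalises_iff g.2).mpr h
  have hgM : T.f g ∈ Mbar := by
    rw [hg]
    exact ⟨kP p hp, Subgroup.mem_subgroupOf.mpr ((mem_MM (A := U43.pm p)).mpr ⟨pm_mem p, by rw [mp_pm]; exact hp⟩), rfl⟩
  have hset : {a | a ∈ T.good ∧ T.fA a = δ e'} =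
      (fun a => (g : G) * a * (g : G)⁻¹) '' {a | a ∈ T.good ∧ T.fA a = δ e} := by
    ext b
    constructor
    · rintro ⟨⟨hb, hbc⟩, hbe⟩
      refine ⟨(g : G)⁻¹ * b * g, ⟨⟨?_, ?_⟩, ?_⟩, by group⟩
      · simpa using hN g⁻¹ (by rw [map_inv]; exact inv_mem hgM) b hb
      · exact hbc.trans (isConj_iff.mpr ⟨(g : G)⁻¹, by group⟩)
      · have h' := T.fA_conj g⁻¹ (T.A_le hb)
        rw [map_inv, hbe, hconj] at h'
        push_cast at h'
        rw [inv_inv] at h'
        rw [h']; group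
    · rintro ⟨a, ⟨⟨ha, hac⟩, hae⟩, rfl⟩
      refine ⟨⟨hN g hgM a ha, hac.trans (isConj_iff.mpr ⟨g, rfl⟩)⟩, ?_⟩
      rw [T.fA_conj g (T.A_le ha), hae, hconj]
  rw [mult, mult, hset, Set.ncard_image_of_injective _ (fun a b h => by
    exact mul_left_cancel (mul_right_cancel h))]

theorem kind_zero_congr {e e' : Fin 243} (h : δ e = δ e') : decide (kind e ≠ 0) = decide (kind e' ≠ 0) := by
  rw [decide_eq_decide, not_iff_not, kind_zero_iff, kind_zero_iff, h]

theorem inv_zpow_cases {a : G} (h : a ∈ Subgroup.zpowers T.y) : a = 1 ∨ a = T.y ∨ a = T.y⁻¹ := by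
  obtain ⟨n, rfl⟩ := mem_powers_iff_mem_zpowers.mpr h
  show T.y ^ n = 1 ∨ T.y ^ n = T.y ∨ T.y ^ n = T.y⁻¹
  rw [show n = 3 * (n / 3) + n % 3 by omega, pow_add, pow_mul, T.y3, one_pow, one_mul]
  have := Nat.mod_lt n (show 0 < 3 by norm_num)
  interval_cases n % 3
  · exact Or.inl (pow_zero _)
  · exact Or.inr (Or.inl (pow_one _))
  · exact Or.inr (Or.inr (eq_inv_of_mul_eq_one_left (by rw [← pow_succ]; exact T.y3)))

theorem y_ne_inv : T.y ≠ T.y⁻¹ := fun e => T.y1 (by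
  have h2 : T.y * T.y = 1 := by nth_rw 1 [e]; exact inv_mul_cancel _
  have := T.y3
  rwa [pow_succ, sq, h2, one_mul] at this)

/-- the two trivial conjugates -/
theorem good_zero (hy : IsConj T.y T.y⁻¹) : {a | a ∈ T.good ∧ T.fA a = 1}.ncard = 2 := by
  have : {a | a ∈ T.good ∧ T.fA a = 1} = {T.y, T.y⁻¹} := by
    ext a
    simp only [Set.mem_setOf_eq, Set.mem_insert_iff, Set.mem_singleton_iff]
    constructor
    · rintro ⟨⟨ha, hc⟩, h1⟩
      rcases T.inv_zpow_cases ((T.fA_one_iff (T.A_le ha)).mp h1) with e | e | e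
      · rw [e, isConj_one_left] at hc; exact absurd hc T.y1
      · exact Or.inl e
      · exact Or.inr e
    · rintro (rfl | rfl)
      · exact ⟨⟨T.y_A, IsConj.refl _⟩, (T.fA_one_iff T.y_L).mpr (Subgroup.mem_zpowers _)⟩
      · exact ⟨⟨inv_mem T.y_A, hy⟩, (T.fA_one_iff (inv_mem T.y_L)).mpr (inv_mem (Subgroup.mem_zpowers _))⟩
  rw [this, Set.ncard_pair T.y_ne_inv]

theorem nonzero_iff {a : G} (h : a ∈ T.A) :
    (∃ e, δ e = T.fA a ∧ decide (kind e ≠ 0) = true) ↔ T.fA a ≠ 1 := by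
  obtain ⟨e, he⟩ := mem_Dbar.mp (T.fA_Dbar h)
  simp only [decide_eq_true_eq, ne_eq, kind_zero_iff]
  exact ⟨fun ⟨e, he, hk⟩ => he ▸ hk, fun hk => ⟨e, he, he ▸ hk⟩⟩

/-- the subgroup centralised by the reference involution -/
theorem card_fixed {ι : G} (hιy : Commute ι T.y) (hιf : T.fA ι = pi1 iotaK) (hι2 : ι * ι = 1) :
    Nat.card (T.A ⊓ Subgroup.centralizer ({ι} : Set G) : Subgroup G) = 27 ∧
      ∀ a ∈ T.A, (Commute a ι ↔ ∃ e, δ e = T.fA a ∧ fixI e = true) := by
  classical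
  have hmem : ∀ a ∈ T.A, (Commute a ι ↔ ∃ e, δ e = T.fA a ∧ fixI e = true) := by
    intro a ha
    have hιL : ι ∈ T.L := T.mem_L.mpr hιy
    obtain ⟨e, he⟩ := mem_Dbar.mp (T.fA_Dbar ha)
    have hc : T.fA (ι * a * ι⁻¹) = pi1 iotaK * δ e * (pi1 iotaK)⁻¹ := by
      rw [T.fA_conj ⟨ι, hιL⟩ (T.A_le ha), ← T.fA_eq hιL, hιf, he]
    constructor
    · intro h
      refine ⟨e, he, (fix_iff e).mp ?_⟩
      rw [← hc, h.symm.eq, mul_inv_cancel_right, he]
    · rintro ⟨e1, he1, hf⟩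
      have e2 : T.fA (ι * a * ι⁻¹) = T.fA a := by
        rw [hc, he.trans he1.symm, (fix_iff e1).mpr hf, he1]
      rw [T.fA_eq (mul_mem (mul_mem hιL (T.A_le ha)) (inv_mem hιL)), T.fA_eq (T.A_le ha)] at e2
      obtain ⟨k, hk⟩ := T.A_of_eq e2
      change ι * a * ι⁻¹ = a * T.y ^ k at hk
      have hy : ι * T.y ^ k * ι⁻¹ = T.y ^ k := by rw [(hιy.zpow_right k).eq, mul_inv_cancel_right]
      have h2 : a = a * T.y ^ k * T.y ^ k := by
        have e : ι * (ι * a * ι⁻¹) * ι⁻¹ = a := by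
          rw [show ι * (ι * a * ι⁻¹) * ι⁻¹ = ι * ι * a * (ι * ι)⁻¹ by group, hι2]; group
        conv_lhs => rw [← e, hk, show ι * (a * T.y ^ k) * ι⁻¹ = (ι * a * ι⁻¹) * (ι * T.y ^ k * ι⁻¹) by group, hk, hy]
      rw [mul_assoc] at h2
      have h2' := mul_eq_left.mp h2.symm
      have h3 : (T.y ^ k) ^ 3 = 1 := by rw [← zpow_natCast, ← zpow_mul, mul_comm, zpow_mul, zpow_natCast, T.y3, one_zpow]
      rw [pow_succ, sq, h2', one_mul] at h3
      rw [h3, mul_one] at hk
      exact (mul_inv_eq_iff_eq_mul.mp hk : Commute ι a).symm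
  refine ⟨?_, hmem⟩
  haveI : Fintype G := Fintype.ofFinite G
  -- count incidences
  set s : Finset G := Finset.univ.filter fun a => a ∈ T.A ∧ Commute a ι with hs
  have h1 : ∀ a ∈ s, ((Finset.univ.filter fun e => fixI e = true).filter fun e => δ e = T.fA a).card = 3 := by
    intro a ha
    obtain ⟨-, haA, hac⟩ := Finset.mem_filter.mp ha
    rw [← T.card_filter_δ haA, Finset.filter_filter]
    congr 1
    ext e
    simp only [Finset.mem_filter, Finset.mem_univ, true_and]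
    refine ⟨fun h => h.2, fun h => ⟨?_, h⟩⟩
    obtain ⟨e1, he1, hf⟩ := (hmem a haA).mp hac
    rw [← fix_iff, h, ← he1, (fix_iff e1).mpr hf]
  have h2 : ∀ e ∈ Finset.univ.filter (fun e => fixI e = true), (s.filter fun a => δ e = T.fA a).card = 3 := by
    intro e he
    have hf := (Finset.mem_filter.mp he).2
    obtain ⟨x, hx⟩ := T.exists_lift (Dbar_le (mem_Dbar.mpr ⟨e, rfl⟩))
    have hset : (s.filter fun a => δ e = T.fA a) = Finset.univ.filter fun a => a ∈ Set.range fun k : T.f.ker => (x : G) * k := by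
      ext a
      simp only [hs, Finset.mem_filter, Finset.mem_univ, true_and, Set.mem_range]
      constructor
      · rintro ⟨⟨ha, -⟩, hae⟩
        rw [T.fA_eq (T.A_le ha)] at hae
        refine ⟨⟨x⁻¹ * ⟨a, T.A_le ha⟩, MonoidHom.mem_ker.mpr ?_⟩, by simp⟩
        rw [map_mul, map_inv, hx, ← hae, inv_mul_cancel]
      · rintro ⟨k, rfl⟩
        have hL : (x : G) * ((k : T.L) : G) ∈ T.L := mul_mem x.2 (k : T.L).2
        have hv : T.fA ((x : G) * ((k : T.L) : G)) = δ e := by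
          rw [T.fA_eq hL, show (⟨_, hL⟩ : T.L) = x * k from rfl, map_mul, hx, MonoidHom.mem_ker.mp k.2, mul_one]
        have hA : (x : G) * ((k : T.L) : G) ∈ T.A :=
          T.mem_A.mpr ⟨hL, by rw [← T.fA_eq hL, hv]; exact mem_Dbar.mpr ⟨e, rfl⟩⟩
        exact ⟨⟨hA, (hmem _ hA).mpr ⟨e, hv.symm, hf⟩⟩, hv.symm⟩
    rw [hset, ← Set.toFinset_setOf, ← Set.ncard_eq_toFinset_card',
      show {a | a ∈ Set.range fun k : T.f.ker => (x : G) * k} = Set.range fun k : T.f.ker => (x : G) * k from rfl,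
      Set.ncard_range_of_injective (fun a b h => Subtype.ext (Subtype.ext (mul_left_cancel h)))]
    exact T.card_kerf
  have hd := Finset.sum_card_bipartiteAbove_eq_sum_card_bipartiteBelow (s := Finset.univ.filter fun e => fixI e = true)
    (t := s) (fun e a => δ e = T.fA a)
  simp only [Finset.bipartiteAbove, Finset.bipartiteBelow] at hd
  rw [Finset.sum_congr rfl h2, Finset.sum_congr rfl h1, Finset.sum_const, Finset.sum_const] at hd
  have h27 : (Finset.univ.filter fun e => fixI e = true).card = 27 := by decide +kernel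
  rw [h27, smul_eq_mul, smul_eq_mul] at hd
  have hcard : Nat.card (T.A ⊓ Subgroup.centralizer ({ι} : Set G) : Subgroup G) = s.card := by
    rw [Nat.card_eq_fintype_card, Fintype.card_subtype]
    congr 1
    ext a
    simp only [hs, Finset.mem_filter, Finset.mem_univ, true_and, Subgroup.mem_inf, Subgroup.mem_centralizer_singleton_iff]
    exact Iff.rfl
  rw [hcard]
  omega

/-- The count. -/
theorem good_cases {ι : G} (hιy : Commute ι T.y) (hιf : T.fA ι = pi1 iotaK) (hι2 : ι * ι = 1)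
    (hy : IsConj T.y T.y⁻¹) (hsix : {a | a ∈ T.good ∧ Commute a ι}.ncard = 6) :
    (T.good.ncard = 22 ∧ (∀ e, kind e = 1 → T.mult e = 1) ∧ ∀ e, kind e = 2 ∨ kind e = 3 → T.mult e = 0) ∨
      T.good.ncard = 62 := by
  obtain ⟨-, hmem⟩ := T.card_fixed hιy hιf hι2
  have hsplit : T.good.ncard = 2 + {a | a ∈ T.good ∧ ∃ e, δ e = T.fA a ∧ decide (kind e ≠ 0) = true}.ncard := by
    rw [← T.good_zero hy, ← Set.ncard_union_eq]
    · congr 1
      ext a
      simp only [Set.mem_union, Set.mem_setOf_eq]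
      constructor
      · intro h
        by_cases h1 : T.fA a = 1
        · exact Or.inl ⟨h, h1⟩
        · exact Or.inr ⟨h, (T.nonzero_iff h.1).mpr h1⟩
      · rintro (h | h) <;> exact h.1
    · rw [Set.disjoint_left]
      intro a h h'
      exact (T.nonzero_iff h.1.1).mp h'.2 h.2
  have hfixsplit : {a | a ∈ T.good ∧ ∃ e, δ e = T.fA a ∧ (decide (fixI e = true ∧ kind e ≠ 0)) = true}.ncard = 4 := by
    have e6 : {a | a ∈ T.good ∧ Commute a ι} = {a | a ∈ T.good ∧ T.fA a = 1} ∪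
        {a | a ∈ T.good ∧ ∃ e, δ e = T.fA a ∧ (decide (fixI e = true ∧ kind e ≠ 0)) = true} := by
      ext a
      simp only [Set.mem_union, Set.mem_setOf_eq, decide_eq_true_eq]
      constructor
      · rintro ⟨h, hc⟩
        by_cases h1 : T.fA a = 1
        · exact Or.inl ⟨h, h1⟩
        · obtain ⟨e, he, hf⟩ := (hmem a h.1).mp hc
          exact Or.inr ⟨h, e, he, hf, fun hk => h1 (he ▸ (kind_zero_iff e).mp hk)⟩
      · rintro (⟨h, h1⟩ | ⟨h, e, he, hf, -⟩)
        · refine ⟨h, ?_⟩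
          rcases T.inv_zpow_cases ((T.fA_one_iff (T.A_le h.1)).mp h1) with e | e | e <;> rw [e]
          exacts [Commute.one_left _, hιy.symm, hιy.symm.inv_left]
        · exact ⟨h, (hmem a h.1).mpr ⟨e, he, hf⟩⟩
    rw [e6, Set.ncard_union_eq, T.good_zero hy] at hsix
    · omega
    · rw [Set.disjoint_left]
      rintro a ⟨-, h1⟩ ⟨-, e, he, hk⟩
      rw [decide_eq_true_eq] at hk
      exact hk.2 ((kind_zero_iff e).mpr (he.trans h1))
  have hP : ∀ e e', δ e = δ e' → decide (fixI e = true ∧ kind e ≠ 0) = decide (fixI e' = true ∧ kind e' ≠ 0) := by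
    intro e e' h
    rw [decide_eq_decide, ← fix_iff, ← fix_iff, Ne, Ne, kind_zero_iff, kind_zero_iff, h]
  have h12 := T.sum_mult (fun e => decide (fixI e = true ∧ kind e ≠ 0)) hP
  have hall := T.sum_mult (fun e => decide (kind e ≠ 0)) fun e e' h => kind_zero_congr h
  simp only [decide_eq_true_eq] at h12 hall hfixsplit hsplit
  rcases weights T.mult (fun p hp e e' h => T.mult_inv hp h) (by rw [h12, hfixsplit]) with ⟨h60, h1, h23⟩ | h180
  · refine Or.inl ⟨?_, h1, h23⟩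
    rw [h60] at hall
    omega
  · refine Or.inr ?_
    rw [h180] at hall
    omega

end Cover

end Cfsg.Agent.Spor.SuzThree
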