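import Cfsg.Agent.Lib.Small.MathieuEleven.Iso

/-!
A group of order 7920 acting on eleven points doubly transitively with kernel of order at most two is
isomorphic to the smallest Mathieu group.
-/

set_option autoImplicit false

namespace Cfsg.Agent.Spor.SuzThree

/-- a permutation commuting with a transitive cyclic group of permutations lies in it -/
theorem mem_of_commute {α : Type*} {S : Subgroup (Equiv.Perm α)} {σ : Equiv.Perm α} (hS : S = Subgroup.zpowers σ)
    (x₀ : α) (htr : ∀ x, ∃ k : ℤ, (σ ^ k) x₀ = x) {g : Equiv.Perm α} (hg : Commute g σ) : g ∈ S := by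
  obtain ⟨k, hk⟩ := htr (g x₀)
  refine hS ▸ ⟨k, Equiv.ext fun x => ?_⟩
  obtain ⟨j, rfl⟩ := htr x
  show (σ ^ k) ((σ ^ j) x₀) = g ((σ ^ j) x₀)
  have e := congrArg (fun f : Equiv.Perm α => f x₀) (hg.zpow_right j).eq
  simp only [Equiv.Perm.mul_apply] at e
  rw [e, ← hk, ← Equiv.Perm.mul_apply, ← Equiv.Perm.mul_apply, (Commute.zpow_zpow_self σ k j).eq]

/-- the normaliser of a subgroup of order eleven in a group of permutations of eleven points -/
theorem normalizer_dvd {H : Type*} [Group H] [Finite H] (f : H →* Equiv.Perm (Fin 11)) (hf : Function.Injective f)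
    (P : Subgroup H) (hP : Nat.card P = 11) :
    Nat.card (Subgroup.normalizer (P : Set H)) ∣ 110 ∧
      (Nat.card (Subgroup.normalizer (P : Set H)) = 11 → Subgroup.normalizer (P : Set H) ≤ Subgroup.centralizer (P : Set H)) := by
  haveI : Fact (Nat.Prime 11) := ⟨by norm_num⟩
  haveI : IsCyclic P := isCyclic_of_prime_card hP
  obtain ⟨g, hg⟩ := IsCyclic.exists_generator (α := P)
  have hog : orderOf (g : H) = 11 := by
    rw [Subgroup.orderOf_coe, orderOf_eq_card_of_forall_mem_zpowers hg, hP]
  set σ := f (g : H) with hσ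
  have hoσ : orderOf σ = 11 := by rw [hσ, orderOf_injective f hf, hog]
  have hcyc : σ.IsCycle := Equiv.Perm.isCycle_of_prime_order'' (α := Fin 11) (by simp; norm_num) (by simpa using hoσ)
  have hsupp : σ.support = Finset.univ :=
    Finset.eq_univ_of_card _ (by rw [← hcyc.orderOf, hoσ]; simp)
  have htr : ∀ x, ∃ k : ℤ, (σ ^ k) 0 = x := fun x => hcyc.sameCycle
    (Equiv.Perm.mem_support.mp (hsupp ▸ Finset.mem_univ 0)) (Equiv.Perm.mem_support.mp (hsupp ▸ Finset.mem_univ x))
  have hC : ∀ c : H, (∀ x ∈ P, Commute c x) → c ∈ P := by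
    intro c hc
    obtain ⟨k, hk⟩ := Subgroup.mem_zpowers_iff.mp (mem_of_commute (S := Subgroup.zpowers σ) rfl 0 htr
      (g := f c) ((hc g g.2).map f))
    have : (g : H) ^ k = c := hf (by rw [map_zpow, ← hσ, hk])
    exact this ▸ zpow_mem g.2 k
  let N := Subgroup.normalizer (P : Set H)
  have hle : P ≤ N := Subgroup.le_normalizer
  let ψ : N →* MulAut P :=
    { toFun := fun n =>
        { toFun := fun x => ⟨(n : H) * x * (n : H)⁻¹, (Subgroup.mem_normalizer_iff.mp n.2 x).mp x.2⟩
          invFun := fun x => ⟨(n : H)⁻¹ * x * (n : H), by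
            simpa using (Subgroup.mem_normalizer_iff.mp (inv_mem n.2) x).mp x.2⟩
          left_inv := fun x => Subtype.ext (show (n : H)⁻¹ * ((n : H) * x * (n : H)⁻¹) * n = (x : H) by group)
          right_inv := fun x => Subtype.ext (show (n : H) * ((n : H)⁻¹ * x * n) * (n : H)⁻¹ = (x : H) by group)
          map_mul' := fun a b => Subtype.ext (show (n : H) * (a * b) * (n : H)⁻¹ =
            (n : H) * a * (n : H)⁻¹ * ((n : H) * b * (n : H)⁻¹) by group) }
      map_one' := MulEquiv.ext fun x => Subtype.ext (show (1 : H) * x * (1 : H)⁻¹ = x by group)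
      map_mul' := fun a b => MulEquiv.ext fun x => Subtype.ext (show (a : H) * b * x * ((a : H) * b)⁻¹ =
        (a : H) * ((b : H) * x * (b : H)⁻¹) * (a : H)⁻¹ by group) }
  have hker : ψ.ker = P.subgroupOf N := by
    ext n
    rw [MonoidHom.mem_ker, Subgroup.mem_subgroupOf]
    constructor
    · intro h
      refine hC _ fun x hx => ?_
      have e : (n : H) * x * (n : H)⁻¹ = x := congrArg Subtype.val (MulEquiv.congr_fun h ⟨x, hx⟩)
      exact mul_inv_eq_iff_eq_mul.mp e
    · intro h
      refine MulEquiv.ext fun x => Subtype.ext ?_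
      show (n : H) * x * (n : H)⁻¹ = x
      have e := congrArg Subtype.val ((IsCyclic.isMulCommutative).is_comm.comm (⟨(n : H), h⟩ : P) x)
      exact mul_inv_eq_iff_eq_mul.mpr e
  have hk : Nat.card ψ.ker = 11 := by rw [hker, Nat.card_congr (Subgroup.subgroupOfEquivOfLe hle).toEquiv, hP]
  have h1 := Subgroup.card_eq_card_quotient_mul_card_subgroup ψ.ker
  rw [Nat.card_congr (QuotientGroup.quotientKerEquivRange ψ).toEquiv, hk] at h1
  have h2 : Nat.card ψ.range ∣ 10 := by
    have h := Subgroup.card_subgroup_dvd_card ψ.range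
    rwa [IsCyclic.card_mulAut, hP, Nat.totient_prime (by norm_num)] at h
  refine ⟨h1 ▸ Nat.mul_dvd_mul h2 (dvd_refl 11), fun he n hn => ?_⟩
  have hPN : P = N := Subgroup.eq_of_le_of_card_ge hle (by rw [hP]; exact he.le)
  refine Subgroup.mem_centralizer_iff.mpr fun x hx => ?_
  exact congrArg Subtype.val ((IsCyclic.isMulCommutative).is_comm.comm (⟨x, hx⟩ : P) ⟨n, hPN ▸ hn⟩)

/-- the orders of the groups that can occur -/
theorem sylow_count {H : Type*} [Group H] [Finite H] (f : H →* Equiv.Perm (Fin 11)) (hf : Function.Injective f)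
    (P : Sylow 11 H) (hP : Nat.card (P : Subgroup H) = 11) :
    ∃ d n, d ∣ 10 ∧ n % 11 = 1 ∧ Nat.card (Sylow 11 H) = n ∧ Nat.card H = 11 * d * n ∧
      Nat.card (Subgroup.normalizer ((P : Subgroup H) : Set H)) = 11 * d := by
  haveI : Fact (Nat.Prime 11) := ⟨by norm_num⟩
  obtain ⟨h1, -⟩ := normalizer_dvd f hf P hP
  obtain ⟨d, hd⟩ : 11 ∣ Nat.card (Subgroup.normalizer ((P : Subgroup H) : Set H)) := by
    have hle : (P : Subgroup H) ≤ Subgroup.normalizer ((P : Subgroup H) : Set H) := Subgroup.le_normalizer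
    have h := Subgroup.card_dvd_of_le hle
    rwa [hP] at h
  refine ⟨d, _, ?_, card_sylow_modEq_one 11 H, rfl, ?_, hd⟩
  · rw [hd] at h1
    exact (Nat.mul_dvd_mul_iff_left (by norm_num : 0 < 11)).mp (h1 : 11 * d ∣ 11 * 10)
  · rw [← hd, Sylow.card_eq_index_normalizer P]
    exact (Subgroup.card_mul_index _).symm

/-- There is no group of order 3960 of permutations of eleven points. -/
theorem no_3960 {H : Type*} [Group H] [Finite H] (f : H →* Equiv.Perm (Fin 11)) (hf : Function.Injective f) :
    Nat.card H ≠ 3960 := by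
  intro hH
  haveI : Fact (Nat.Prime 11) := ⟨by norm_num⟩
  obtain ⟨P⟩ : Nonempty (Sylow 11 H) := inferInstance
  have hP : Nat.card (P : Subgroup H) = 11 := by
    rw [P.card_eq_multiplicity, hH]
    have h : (3960 : ℕ).factorization 11 = 1 := by
      rw [show (3960 : ℕ) = 11 ^ 1 * 360 by norm_num,
        Nat.factorization_mul (by norm_num) (by norm_num), Finsupp.add_apply,
        Nat.factorization_eq_zero_of_not_dvd (n := 360) (by norm_num),
        Nat.Prime.factorization_pow (by norm_num), Finsupp.single_eq_same, add_zero]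
    rw [h, pow_one]
  obtain ⟨d, n, hd, hn, -, hH', -⟩ := sylow_count f hf P hP
  have : d ≤ 10 := Nat.le_of_dvd (by norm_num) hd
  interval_cases d <;> omega

/-- a group of order 7920 acting on eleven points faithfully and doubly transitively is simple -/
theorem simple_of_two_trans {K : Type*} [Group K] [Finite K] (hK : Nat.card K = 7920)
    (f : K →* Equiv.Perm (Fin 11)) (hf : Function.Injective f)
    (htwo : ∀ a b c : Fin 11, b ≠ a → c ≠ a → ∃ g, f g a = a ∧ f g b = c) : IsSimpleGroup K := by
  haveI : Fact (Nat.Prime 11) := ⟨by norm_num⟩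
  haveI : Nontrivial K := Finite.one_lt_card_iff_nontrivial.mp (by omega)
  refine ⟨fun M hM => ?_⟩
  by_cases hbot : M = ⊥
  · exact Or.inl hbot
  right
  obtain ⟨m, hm, hm1⟩ := (Subgroup.bot_or_exists_ne_one M).resolve_left hbot
  obtain ⟨a, ha⟩ : ∃ a, f m a ≠ a := by
    by_contra h
    push Not at h
    exact hm1 (hf (by rw [map_one]; exact Equiv.ext h))
  -- the normal subgroup is transitive
  have htr : ∀ b, ∃ x ∈ M, f x a = b := by
    intro b
    by_cases hb : b = a
    · exact ⟨1, one_mem M, by simp [hb]⟩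
    obtain ⟨g, hga, hgb⟩ := htwo a (f m a) b ha hb
    refine ⟨g * m * g⁻¹, hM.conj_mem m hm g, ?_⟩
    have hi : f g⁻¹ a = a := by rw [map_inv, Equiv.Perm.inv_eq_iff_eq, hga]
    rw [map_mul, map_mul, Equiv.Perm.mul_apply, Equiv.Perm.mul_apply, hi, hgb]
  let fM : M →* Equiv.Perm (Fin 11) := f.comp M.subtype
  letI : MulAction M (Fin 11) := MulAction.compHom (Fin 11) fM
  have hfM : Function.Injective fM := hf.comp Subtype.val_injective
  have hstab : ∀ b : Fin 11, Nat.card M = 11 * Nat.card (MulAction.stabilizer M b) := by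
    intro b
    have ho : MulAction.orbit M b = Set.univ := by
      refine Set.eq_univ_of_forall fun c => ?_
      obtain ⟨x, hx, hxb⟩ := htr b
      obtain ⟨y, hy, hyc⟩ := htr c
      refine ⟨⟨y, hy⟩ * ⟨x, hx⟩⁻¹, ?_⟩
      show f (y * x⁻¹) b = c
      rw [map_mul, map_inv, Equiv.Perm.mul_apply, ← hxb, Equiv.Perm.coe_inv, Equiv.symm_apply_apply, hyc]
    have h := MulAction.index_stabilizer M b
    rw [ho, Set.ncard_univ, Nat.card_fin] at h
    rw [← Subgroup.card_mul_index (MulAction.stabilizer M b), h, mul_comm]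
  have hMd : Nat.card M ∣ 7920 := hK ▸ Subgroup.card_subgroup_dvd_card M
  obtain ⟨e, he⟩ : 11 ∣ Nat.card M := ⟨_, hstab 0⟩
  have he' : ¬ 11 ∣ e := by
    intro h
    have : 121 ∣ 7920 := (Nat.mul_dvd_mul_left 11 h).trans (he ▸ hMd)
    omega
  have hfac : ∀ {n k : ℕ}, n = 11 * k → ¬ 11 ∣ k → n.factorization 11 = 1 := by
    intro n k hn hk
    rw [hn, Nat.factorization_mul (by norm_num) (fun h => hk (by rw [h]; exact dvd_zero 11)), Finsupp.add_apply,
      Nat.factorization_eq_zero_of_not_dvd hk, Nat.Prime.factorization_self (by norm_num), add_zero]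
  obtain ⟨P⟩ : Nonempty (Sylow 11 M) := inferInstance
  have hP : Nat.card (P : Subgroup M) = 11 := by rw [P.card_eq_multiplicity, hfac he he', pow_one]
  -- count the Sylow subgroups of the whole group
  obtain ⟨R⟩ : Nonempty (Sylow 11 K) := inferInstance
  have hR : Nat.card (R : Subgroup K) = 11 := by
    rw [R.card_eq_multiplicity, hfac (k := 720) (by rw [hK]) (by norm_num), pow_one]
  obtain ⟨d', n', hd', hn', hcR, hK', -⟩ := sylow_count f hf R hR
  have hn144 : n' = 144 := by
    have : d' ≤ 10 := Nat.le_of_dvd (by norm_num) hd'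
    interval_cases d' <;> omega
  -- they all lie in the normal subgroup
  have hsub : ∀ S : Sylow 11 K, (S : Subgroup K) ≤ M := by
    intro S x hx
    haveI := hM
    have hindex : ¬ 11 ∣ M.index := by
      intro h
      have h' : 11 * 11 ∣ Nat.card M * M.index := Nat.mul_dvd_mul ⟨e, he⟩ h
      rw [Subgroup.card_mul_index, hK] at h'
      omega
    have hSc : Nat.card (S : Subgroup K) = 11 := by
      rw [S.card_eq_multiplicity, hfac (k := 720) (by rw [hK]) (by norm_num), pow_one]
    have h1 : orderOf ((QuotientGroup.mk' M) x) ∣ 11 := (orderOf_map_dvd _ x).trans (hSc ▸ Subgroup.orderOf_dvd_natCard _ hx)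
    have h2 : orderOf ((QuotientGroup.mk' M) x) ∣ M.index := orderOf_dvd_natCard _
    rcases (Nat.dvd_prime (by norm_num)).mp h1 with h | h
    · exact (QuotientGroup.eq_one_iff x).mp (orderOf_eq_one_iff.mp h)
    · exact absurd (h ▸ h2) hindex
  have hcount : Nat.card (Sylow 11 M) = 144 := by
    rw [← hn144, ← hcR]
    refine Nat.card_congr ⟨fun S => Sylow.ofCard ((S : Subgroup M).map M.subtype) (by
        rw [Subgroup.card_map_of_injective M.subtype_injective, S.card_eq_multiplicity, hfac he he', hK,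
          hfac (k := 720) rfl (by norm_num)]),
      fun S => S.subtype (hsub S), fun S => ?_, fun S => ?_⟩
    · apply Sylow.ext
      rw [Sylow.coe_subtype, Sylow.coe_ofCard]
      exact Subgroup.comap_map_eq_self_of_injective M.subtype_injective _
    · apply Sylow.ext
      rw [Sylow.coe_ofCard, Sylow.coe_subtype]
      exact Subgroup.map_subgroupOf_eq_of_le (hsub S)
  obtain ⟨d, n, hd, hn, hcn, hM', hN⟩ := sylow_count fM hfM P hP
  rw [hcount] at hcn
  subst hcn
  rw [hM'] at hMd
  have hd1 : d ≤ 10 := Nat.le_of_dvd (by norm_num) hd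
  by_cases hd5 : d = 5
  · exact (Subgroup.card_eq_iff_eq_top M).mp (by rw [hM', hK, hd5])
  exfalso
  have hdd : d = 1 := by interval_cases d <;> omega
  subst hdd
  -- the normal complement fixes every point
  have hNC := (normalizer_dvd fM hfM P hP).2 (by rw [hN])
  set T := (MonoidHom.transferSylow P hNC).ker with hT
  have hTc := MonoidHom.ker_transferSylow_isComplement' P hNC
  have hTi : T.index = 11 := by rw [hT, hTc.symm.index_eq_card, hP]
  have hTn : Nat.card T = 144 := by
    have h := Subgroup.card_mul_index T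
    rw [hTi, hM'] at h
    omega
  have hst : ∀ b : Fin 11, MulAction.stabilizer M b = T := by
    intro b
    have hc : Nat.card (MulAction.stabilizer M b) = 144 := by have := hstab b; omega
    refine Subgroup.eq_of_le_of_card_ge (fun x hx => ?_) (by rw [hc, hTn])
    have h1 : orderOf ((QuotientGroup.mk' T) x) ∣ 144 :=
      (orderOf_map_dvd _ x).trans (hc ▸ Subgroup.orderOf_dvd_natCard _ hx)
    have h2 : orderOf ((QuotientGroup.mk' T) x) ∣ T.index := orderOf_dvd_natCard _
    rw [hTi] at h2
    have h3 := Nat.dvd_gcd h1 h2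
    rw [show Nat.gcd 144 11 = 1 by norm_num, Nat.dvd_one] at h3
    exact (QuotientGroup.eq_one_iff x).mp (orderOf_eq_one_iff.mp h3)
  have hT1 : T = ⊥ := by
    refine (Subgroup.eq_bot_iff_forall _).mpr fun x hx => hfM ?_
    rw [map_one]
    refine Equiv.ext fun b => ?_
    have hb : x ∈ MulAction.stabilizer M b := by rw [hst b]; exact hx
    exact MulAction.mem_stabilizer_iff.mp hb
  rw [hT1, Subgroup.card_bot] at hTn
  omega

/-- The recognition: the kernel has order at most two. -/
theorem iso_eleven {K : Type*} [Group K] [Finite K] (hK : Nat.card K = 7920) (f : K →* Equiv.Perm (Fin 11))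
    (hker : Nat.card f.ker ≤ 2) (htwo : ∀ a b c : Fin 11, b ≠ a → c ≠ a → ∃ g, f g a = a ∧ f g b = c) :
    Cfsg.Spor.IsoM11 K := by
  have hf : Function.Injective f := by
    have h := Subgroup.card_eq_card_quotient_mul_card_subgroup f.ker
    rw [Nat.card_congr (QuotientGroup.quotientKerEquivRange f).toEquiv, hK] at h
    refine (MonoidHom.ker_eq_bot_iff f).mp (Subgroup.eq_bot_of_card_le _ ?_)
    have h0 : 0 < Nat.card f.ker := Nat.card_pos
    rcases (show Nat.card f.ker = 1 ∨ Nat.card f.ker = 2 by omega) with e | e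
    · exact e.le
    · rw [e] at h
      exact absurd (show Nat.card f.range = 3960 by omega) (no_3960 f.range.subtype f.range.subtype_injective)
  exact Cfsg.Agent.MathieuEleven.iso_of_isM11 ⟨simple_of_two_trans hK f hf htwo, hK⟩
    Cfsg.Agent.MathieuEleven.isM11_concrete

end Cfsg.Agent.Spor.SuzThree
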