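import Cfsg.Agent.Lib.Spor.SuzThree.InvolData
import Cfsg.Agent.Lib.Spor.U43Ref

/-!
The reference group of type PSU(4,3) has one class of involutions.
-/

set_option autoImplicit false
set_option maxRecDepth 100000

namespace Cfsg.Agent.Spor.SuzThree

open Cfsg.Agent.Spor.U43
open Cfsg.Agent.Spor.CC (fld rangeOK all_range)

/-- the permutation of the reference involution -/
def iWord : List ℕ := [3, 2, 1, 4, 2, 1]

/-- value of a table -/
def tv (k i : ℕ) : ℕ := fld (sylT.getD k 0) 16 i

/-- value of the table of a generator -/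
def gv (r i : ℕ) : ℕ := fld (sylGenT.getD r 0) 16 i

/-- the words of the generators and their tables agree -/
def genTabOK : Bool := (List.range 4).all fun r =>
  (sylGens.getD r []).all (fun s => decide (s < 6)) && rangeOK (fun i => evW qv (sylGens.getD r []) i == gv r i) 0 280

theorem genTab_ok : genTabOK = true := by decide +kernel

/-- the tables of the elements -/
def elTabOK (k : ℕ) : Bool :=
  rangeOK (fun i => if k = 0 then tv k i == i else
    decide ((sylPar.getD k (0, 0)).2 < k) && decide ((sylPar.getD k (0, 0)).1 < 4) &&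
      (tv k i == gv (sylPar.getD k (0, 0)).1 (tv (sylPar.getD k (0, 0)).2 i))) 0 280

theorem elTab_ok : ((List.range 128).all elTabOK) = true := by decide +kernel

/-- closure under the generators -/
def mulTabOK (k : ℕ) : Bool := (List.range 4).all fun r =>
  decide ((sylMul.getD k []).getD r 0 < 128) && rangeOK (fun i => gv r (tv k i) == tv ((sylMul.getD k []).getD r 0) i) 0 280

theorem mulTab_ok : ((List.range 128).all mulTabOK) = true := by decide +kernel

/-- distinct elements -/
def tabKey (k : ℕ) : ℕ := sylT.getD k 0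

theorem tab_zero : rangeOK (fun i => tv 0 i == i) 0 280 = true := by decide +kernel

theorem tab_distinct : ((List.range 128).map tabKey).Nodup := by decide +kernel

theorem tab_len : ((List.range 128).all fun k => decide (tabKey k < 2 ^ (16 * 280))) = true := by decide +kernel

/-- the witnesses -/
def witOK (k : ℕ) : Bool :=
  match sylWit.getD k (2, []) with
  | (0, l) => decide (l.headI < 280) && !(tv k (tv k l.headI) == l.headI)
  | (1, g) => g.all (fun s => decide (s < 6)) &&
      rangeOK (fun i => evW qv g (tv k i) == evW qv iWord (evW qv g i)) 0 280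
  | _ => decide (k = 0)

theorem wit_ok : ((List.range 128).all witOK) = true := by decide +kernel

/-- the generator with a number -/
noncomputable def kgen (s : ℕ) : K1 := ⟨gk (Fin.ofNat 6 s), gk_mem _⟩

/-- value of a word -/
noncomputable def kword (w : List ℕ) : K1 := (w.map kgen).prod

theorem kgen_val {s : ℕ} (hs : s < 6) (i : Fin 280) : ((pi1 (kgen s) i : Fin 280) : ℕ) = qv s i := by
  rw [kgen, pi1_gk, show (Fin.ofNat 6 s : Fin 6).val = s from Nat.mod_eq_of_lt hs]

theorem kword_val : ∀ {w : List ℕ}, w.all (fun s => decide (s < 6)) = true → ∀ i : Fin 280,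
    ((pi1 (kword w) i : Fin 280) : ℕ) = evW qv w i
  | [], _, i => by rw [kword, List.map_nil, List.prod_nil, map_one]; rfl
  | s :: w, h, i => by
    rw [List.all_cons, Bool.and_eq_true, decide_eq_true_eq] at h
    rw [kword, List.map_cons, List.prod_cons, map_mul, Equiv.Perm.mul_apply, kgen_val h.1, ← kword,
      kword_val h.2 i]
    rfl

/-- the even permutation of the reference involution -/
def pI : Equiv.Perm (Fin 6) := Equiv.swap 0 1 * Equiv.swap 3 4

/-- the reference involution -/
noncomputable def iotaK : K1 := kword iWord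

theorem iota_val : (iotaK : SUSix.G6) = U43.pm pI := by
  have e : (c5 * (sB * (sA * (c5b * (sB * (sA * 1)))))) = pI := by decide +kernel
  rw [← e, U43.pm_mul, U43.pm_mul, U43.pm_mul, U43.pm_mul, U43.pm_mul, U43.pm_mul, U43.pm_one]
  rfl

/-- being the element with a table -/
def IsTab (σ : Equiv.Perm (Fin 280)) (k : ℕ) : Prop := ∀ i : Fin 280, ((σ i : Fin 280) : ℕ) = tv k i

theorem IsTab.unique {σ τ : Equiv.Perm (Fin 280)} {k : ℕ} (h : IsTab σ k) (h' : IsTab τ k) : σ = τ :=
  Equiv.ext fun i => Fin.ext ((h i).trans (h' i).symm)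

theorem gen_tab (r : Fin 4) (i : Fin 280) : ((pi1 (kword (sylGens.getD r.val [])) i : Fin 280) : ℕ) = gv r i := by
  have h := List.all_eq_true.mp genTab_ok r.val (List.mem_range.mpr r.2)
  rw [Bool.and_eq_true] at h
  rw [kword_val h.1 i]
  exact eq_of_beq (all_range (p := fun i => evW qv (sylGens.getD r.val []) i == gv r.val i) (st := 0) (len := 280)
    h.2 (u := i.val) (Nat.zero_le _) (by omega))

theorem exists_tab : ∀ k, k < 128 → ∃ σ ∈ pi1.range, IsTab σ k := by
  intro k
  induction k using Nat.strong_induction_on with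
  | _ k ih =>
    intro hk
    have h := List.all_eq_true.mp elTab_ok k (List.mem_range.mpr hk)
    have hall := fun i : Fin 280 => all_range (p := fun i => if k = 0 then tv k i == i else
      decide ((sylPar.getD k (0, 0)).2 < k) && decide ((sylPar.getD k (0, 0)).1 < 4) &&
        (tv k i == gv (sylPar.getD k (0, 0)).1 (tv (sylPar.getD k (0, 0)).2 i))) (st := 0) (len := 280) h
      (u := i.val) (Nat.zero_le _) (by omega)
    by_cases h0 : k = 0
    · refine ⟨1, one_mem _, fun i => ?_⟩
      have h1 := hall i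
      rw [if_pos h0, beq_iff_eq] at h1
      exact h1.symm
    · have h1 := hall 0
      rw [if_neg h0, Bool.and_eq_true, Bool.and_eq_true, decide_eq_true_eq, decide_eq_true_eq] at h1
      obtain ⟨σ, ⟨x, rfl⟩, hσ⟩ := ih _ h1.1.1 (h1.1.1.trans hk)
      refine ⟨_, ⟨kword (sylGens.getD (⟨_, h1.1.2⟩ : Fin 4).val []) * x, rfl⟩, fun i => ?_⟩
      have h2 := hall i
      rw [if_neg h0, Bool.and_eq_true, beq_iff_eq] at h2
      rw [map_mul, Equiv.Perm.mul_apply, gen_tab ⟨_, h1.1.2⟩, hσ i, h2.2]

/-- the tabulated subgroup -/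
noncomputable def Syl2 : Subgroup (Equiv.Perm (Fin 280)) :=
  Subgroup.closure (Set.range fun r : Fin 4 => pi1 (kword (sylGens.getD r.val [])))

theorem Syl2_le : Syl2 ≤ pi1.range :=
  (Subgroup.closure_le _).mpr (by rintro _ ⟨r, rfl⟩; exact ⟨_, rfl⟩)

theorem tab_of_mem {σ : Equiv.Perm (Fin 280)} (h : σ ∈ Syl2) : ∃ k < 128, IsTab σ k := by
  have hstep : ∀ (r : Fin 4) (τ : Equiv.Perm (Fin 280)), (∃ k < 128, IsTab τ k) →
      ∃ k < 128, IsTab (pi1 (kword (sylGens.getD r.val [])) * τ) k := by
    rintro r τ ⟨k, hk, ht⟩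
    have hm := List.all_eq_true.mp (List.all_eq_true.mp mulTab_ok k (List.mem_range.mpr hk)) r.val
      (List.mem_range.mpr r.2)
    rw [Bool.and_eq_true, decide_eq_true_eq] at hm
    refine ⟨_, hm.1, fun i => ?_⟩
    rw [Equiv.Perm.mul_apply, gen_tab r, ht i]
    exact eq_of_beq (all_range (p := fun i => gv r.val (tv k i) == tv ((sylMul.getD k []).getD r.val 0) i) (st := 0)
      (len := 280) hm.2 (u := i.val) (Nat.zero_le _) (by omega))
  have hone : ∃ k < 128, IsTab (1 : Equiv.Perm (Fin 280)) k := by
    refine ⟨0, by norm_num, fun i => ?_⟩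
    have h1 := all_range (p := fun i => tv 0 i == i) (st := 0) (len := 280) tab_zero (u := i.val) (Nat.zero_le _) (by omega)
    rw [beq_iff_eq] at h1
    exact h1.symm
  suffices key : ∀ τ, (∃ k < 128, IsTab τ k) → ∃ k < 128, IsTab (σ * τ) k by simpa using key 1 hone
  induction h using Subgroup.closure_induction'' with
  | mem x hx => obtain ⟨r, rfl⟩ := hx; exact hstep r
  | inv_mem x hx =>
    obtain ⟨r, rfl⟩ := hx
    intro τ hτ
    obtain ⟨n, hn⟩ := (isOfFinOrder_of_finite (pi1 (kword (sylGens.getD r.val [])))).mem_powers_iff_mem_zpowers.mpr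
      ⟨-1, zpow_neg_one _⟩
    rw [← hn]
    clear hn
    induction n with
    | zero => simpa using hτ
    | succ m ih => simp only [pow_succ', mul_assoc] at ih ⊢; exact hstep r _ ih
  | one => intro τ hτ; simpa using hτ
  | mul a b _ _ iha ihb => intro τ hτ; rw [mul_assoc]; exact iha _ (ihb τ hτ)

/-- the reference group -/
noncomputable abbrev U280 : Subgroup (Equiv.Perm (Fin 280)) := pi1.range

theorem card_Syl2 : Nat.card Syl2 = 128 := by
  have hle : Nat.card Syl2 ≤ 128 := by
    let f : Syl2 → Fin 128 := fun σ => ⟨(tab_of_mem σ.2).choose, (tab_of_mem σ.2).choose_spec.1⟩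
    have hf : Function.Injective f := fun a b e => by
      have e' : (tab_of_mem a.2).choose = (tab_of_mem b.2).choose := congrArg Fin.val e
      exact Subtype.ext ((tab_of_mem a.2).choose_spec.2.unique (e' ▸ (tab_of_mem b.2).choose_spec.2))
    simpa using Nat.card_le_card_of_injective f hf
  have hmem : ∀ k, k < 128 → ∃ σ ∈ Syl2, IsTab σ k := by
    intro k
    induction k using Nat.strong_induction_on with
    | _ k ih =>
      intro hk
      have h := List.all_eq_true.mp elTab_ok k (List.mem_range.mpr hk)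
      have hall := fun i : Fin 280 => all_range (p := fun i => if k = 0 then tv k i == i else
        decide ((sylPar.getD k (0, 0)).2 < k) && decide ((sylPar.getD k (0, 0)).1 < 4) &&
          (tv k i == gv (sylPar.getD k (0, 0)).1 (tv (sylPar.getD k (0, 0)).2 i))) (st := 0) (len := 280) h
        (u := i.val) (Nat.zero_le _) (by omega)
      by_cases h0 : k = 0
      · refine ⟨1, one_mem _, fun i => ?_⟩
        have h1 := hall i
        rw [if_pos h0, beq_iff_eq] at h1
        exact h1.symm
      · have h1 := hall 0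
        rw [if_neg h0, Bool.and_eq_true, Bool.and_eq_true, decide_eq_true_eq, decide_eq_true_eq] at h1
        obtain ⟨σ, hσm, hσ⟩ := ih _ h1.1.1 (h1.1.1.trans hk)
        refine ⟨_, mul_mem (Subgroup.subset_closure ⟨⟨_, h1.1.2⟩, rfl⟩) hσm, fun i => ?_⟩
        have h2 := hall i
        rw [if_neg h0, Bool.and_eq_true, beq_iff_eq] at h2
        rw [Equiv.Perm.mul_apply, gen_tab ⟨_, h1.1.2⟩, hσ i, h2.2]
  refine le_antisymm hle ?_
  choose g hg hgt using hmem
  have hinj : Function.Injective fun k : Fin 128 => (⟨g k k.2, hg k k.2⟩ : Syl2) := by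
    intro a b e
    have e' : g a a.2 = g b b.2 := congrArg Subtype.val e
    have hv : ∀ i : Fin 280, fld (tabKey a) 16 i = fld (tabKey b) 16 i := fun i =>
      (hgt a a.2 i).symm.trans ((congrArg (fun σ : Equiv.Perm (Fin 280) => ((σ i : Fin 280) : ℕ)) e').trans (hgt b b.2 i))
    have hlt : ∀ c : Fin 128, tabKey c < 2 ^ (16 * 280) := fun c =>
      decide_eq_true_eq.mp (List.all_eq_true.mp tab_len c.val (List.mem_range.mpr c.2))
    have hkey : tabKey a = tabKey b := by
      refine Nat.eq_of_testBit_eq fun j => ?_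
      by_cases hj : j < 16 * 280
      · have := congrArg (fun n => Nat.testBit n (j % 16)) (hv ⟨j / 16, by omega⟩)
        have hone : Nat.testBit 65535 (j % 16) = true := by
          rw [show (65535 : ℕ) = 2 ^ 16 - 1 by norm_num, Nat.testBit_two_pow_sub_one]
          exact decide_eq_true (Nat.mod_lt j (by norm_num))
        simpa [fld, hone, Nat.testBit_mod_two_pow, Nat.testBit_shiftRight, Nat.mod_lt j (show 0 < 16 by norm_num),
          show j / 16 * 16 + j % 16 = j by omega, show 16 * (j / 16) + j % 16 = j by omega] using this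
      · rw [Nat.testBit_lt_two_pow ((hlt a).trans_le (Nat.pow_le_pow_right (by norm_num) (by omega))),
          Nat.testBit_lt_two_pow ((hlt b).trans_le (Nat.pow_le_pow_right (by norm_num) (by omega)))]
    exact Fin.ext (List.inj_on_of_nodup_map tab_distinct (List.mem_range.mpr a.2) (List.mem_range.mpr b.2) hkey)
  simpa using Nat.card_le_card_of_injective _ hinj

/-- An involution of the reference group is conjugate to the reference involution. -/
theorem invol_conj {x : K1} (h2 : pi1 x * pi1 x = 1) (h1 : pi1 x ≠ 1) : ∃ g : K1, pi1 (g * x * g⁻¹) = pi1 iotaK := by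
  haveI : Fact (Nat.Prime 2) := ⟨Nat.prime_two⟩
  have hf : Nat.card U280 = 3265920 := pi1_range_card.1
  let S : Sylow 2 U280 := Sylow.ofCard (Syl2.subgroupOf U280) (by
    rw [Nat.card_congr (Subgroup.subgroupOfEquivOfLe Syl2_le).toEquiv, card_Syl2, hf]
    have : (3265920 : ℕ).factorization 2 = 7 := by
      rw [show (3265920 : ℕ) = 2 ^ 7 * 25515 by norm_num, Nat.factorization_mul (by norm_num) (by norm_num),
        Finsupp.add_apply, Nat.factorization_eq_zero_of_not_dvd (n := 25515) (by norm_num),
        Nat.Prime.factorization_pow Nat.prime_two, Finsupp.single_eq_same, add_zero]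
    rw [this]; norm_num)
  set u : U280 := ⟨pi1 x, x, rfl⟩ with hu
  have hu2 : u ^ 2 = 1 := by rw [sq]; exact Subtype.ext h2
  have hp : IsPGroup 2 (Subgroup.zpowers u) := by
    refine IsPGroup.of_card (n := 1) ?_
    rw [Nat.card_zpowers, pow_one]
    exact orderOf_eq_prime hu2 fun e => h1 (congrArg Subtype.val e)
  obtain ⟨R, hR⟩ := hp.exists_le_sylow
  obtain ⟨c, hc⟩ := MulAction.exists_smul_eq U280 R S
  obtain ⟨y, hy⟩ := c.2
  have hmem : c * u * c⁻¹ ∈ (S : Subgroup U280) := by
    rw [← hc]
    exact ⟨u, hR (Subgroup.mem_zpowers u), rfl⟩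
  rw [Sylow.coe_ofCard, Subgroup.mem_subgroupOf] at hmem
  obtain ⟨k, hk, ht⟩ := tab_of_mem hmem
  set σ : Equiv.Perm (Fin 280) := ((c * u * c⁻¹ : U280) : Equiv.Perm (Fin 280)) with hσ
  have hσ2 : σ * σ = 1 := by
    have : (c * u * c⁻¹) * (c * u * c⁻¹) = 1 := by
      have e : (c * u * c⁻¹) * (c * u * c⁻¹) = c * u ^ 2 * c⁻¹ := by rw [sq]; group
      rw [e, hu2, mul_one, mul_inv_cancel]
    exact congrArg Subtype.val this
  have hσ1 : σ ≠ 1 := by
    intro e
    have : c * u * c⁻¹ = 1 := Subtype.ext e
    exact h1 (congrArg Subtype.val (conj_eq_one_iff.mp this))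
  have hσv : σ = pi1 (y * x * y⁻¹) := by
    rw [hσ, map_mul, map_mul, map_inv, hy]
    rfl
  have hw := List.all_eq_true.mp wit_ok k (List.mem_range.mpr hk)
  unfold witOK at hw
  split at hw
  · rename_i l _
    rw [Bool.and_eq_true, decide_eq_true_eq, Bool.not_eq_true', beq_eq_false_iff_ne] at hw
    exfalso
    apply hw.2
    have e := congrArg (fun τ : Equiv.Perm (Fin 280) => ((τ ⟨l.headI, hw.1⟩ : Fin 280) : ℕ)) hσ2
    simp only [Equiv.Perm.mul_apply, Equiv.Perm.one_apply] at e
    rw [ht, ht] at e
    exact e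
  · rename_i g _
    rw [Bool.and_eq_true] at hw
    refine ⟨kword g * y, ?_⟩
    have hcomm : pi1 (kword g) * σ = pi1 iotaK * pi1 (kword g) := by
      refine Equiv.ext fun i => Fin.ext ?_
      rw [Equiv.Perm.mul_apply, Equiv.Perm.mul_apply, kword_val hw.1, ht i, iotaK,
        kword_val (w := iWord) (by decide), kword_val hw.1]
      exact eq_of_beq (all_range (p := fun i => evW qv g (tv k i) == evW qv iWord (evW qv g i)) (st := 0)
        (len := 280) hw.2 (u := i.val) (Nat.zero_le _) (by omega))
    rw [show kword g * y * x * (kword g * y)⁻¹ = kword g * (y * x * y⁻¹) * (kword g)⁻¹ by group, map_mul, map_mul,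
      map_inv, ← hσv, hcomm, mul_inv_cancel_right]
  · rw [decide_eq_true_eq] at hw
    exfalso
    apply hσ1
    subst hw
    obtain ⟨k0, hk0, h0⟩ := tab_of_mem (one_mem Syl2)
    refine Equiv.ext fun i => Fin.ext ?_
    rw [ht i, Equiv.Perm.one_apply]
    have h := all_range (p := fun i => tv 0 i == i) (st := 0) (len := 280) tab_zero (u := i.val) (Nat.zero_le _) (by omega)
    rw [beq_iff_eq] at h
    exact h

end Cfsg.Agent.Spor.SuzThree
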