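import Cfsg.Agent.Lib.Spor.SuzThree.Count
import Cfsg.Agent.Lib.Spor.SuzThree.Eleven

/-!
The normaliser of the elementary abelian subgroup of order 243 induces the smallest Mathieu group on it, and its
Sylow 3-subgroup is a Sylow subgroup of the whole group.
-/

set_option autoImplicit false
set_option maxRecDepth 100000

namespace Cfsg.Agent.Spor.SuzThree

open Cfsg.Agent.Spor.U43
open Cfsg.Agent.Spor.SpFour (F4)

universe u

namespace Cover

variable {G : Type u} [Group G] [Finite G] (T : Cover G)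

theorem mem_norm {g : G} : g ∈ Subgroup.normalizer (T.A : Set G) ↔ ∀ a ∈ T.A, g * a * g⁻¹ ∈ T.A := by
  refine ⟨fun h a ha => (Subgroup.mem_normalizer_iff.mp h a).mp ha, fun h => Subgroup.mem_normalizer_iff.mpr fun a => ⟨h a, fun ha => ?_⟩⟩
  have hmap : T.A.map (MulAut.conj g).toMonoidHom = T.A := by
    refine Subgroup.eq_of_le_of_card_ge ?_ (le_of_eq ?_)
    · rintro _ ⟨b, hb, rfl⟩; exact h b hb
    · exact (Subgroup.card_map_of_injective (show Function.Injective (MulAut.conj g).toMonoidHom from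
        (MulAut.conj g).injective)).symm
  obtain ⟨b, hb, e⟩ : g * a * g⁻¹ ∈ T.A.map (MulAut.conj g).toMonoidHom := by rw [hmap]; exact ha
  change g * b * g⁻¹ = g * a * g⁻¹ at e
  rwa [← mul_left_cancel (mul_right_cancel e)]

theorem normL : T.L ⊓ Subgroup.normalizer (T.A : Set G) = T.pre Mbar := by
  ext g
  rw [Subgroup.mem_inf, T.mem_norm, T.mem_pre]
  exact ⟨fun ⟨h, h'⟩ => ⟨h, (T.normalises_iff h).mp h'⟩, fun ⟨h, h'⟩ => ⟨h, (T.normalises_iff h).mpr h'⟩⟩

theorem A_le_norm : T.A ≤ Subgroup.normalizer (T.A : Set G) := Subgroup.le_normalizer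

theorem good_inv (hy : IsConj T.y T.y⁻¹) {a : G} (h : a ∈ T.good) : a⁻¹ ∈ T.good := by
  obtain ⟨g, hg⟩ := isConj_iff.mp h.2
  exact ⟨inv_mem h.1, hy.trans (isConj_iff.mpr ⟨g, by rw [← hg]; group⟩)⟩

/-- conjugates in the subgroup are conjugate under its normaliser -/
theorem good_orbit {a : G} (h : a ∈ T.good) : ∃ n ∈ Subgroup.normalizer (T.A : Set G), n * T.y * n⁻¹ = a := by
  obtain ⟨g, hg⟩ := isConj_iff.mp h.2
  set B := T.A.map (MulAut.conj g⁻¹).toMonoidHom with hB
  obtain ⟨c, hc, hcA⟩ := T.conj_A (B := B) (by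
      rintro _ ⟨b, hb, rfl⟩
      refine T.mem_L.mpr ?_
      have := (Commute.conj_iff g⁻¹).2 (T.A_comm hb h.1)
      rw [← hg] at this
      simpa [mul_assoc] using this)
    (by rw [hB, Subgroup.card_map_of_injective (show Function.Injective (MulAut.conj g⁻¹).toMonoidHom from
      (MulAut.conj g⁻¹).injective), T.card_A])
    (by rintro _ ⟨a, ha, rfl⟩ _ ⟨b, hb, rfl⟩; exact (T.A_comm ha hb).map _)
  have hn : c * g⁻¹ ∈ Subgroup.normalizer (T.A : Set G) := T.mem_norm.mpr fun a ha => by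
    rw [← hcA]
    exact ⟨_, ⟨a, ha, rfl⟩, by simp [mul_assoc]⟩
  refine ⟨(c * g⁻¹)⁻¹, inv_mem hn, ?_⟩
  rw [show (c * g⁻¹)⁻¹ * T.y * (c * g⁻¹)⁻¹⁻¹ = g * (c⁻¹ * T.y * c) * g⁻¹ by group,
    show c⁻¹ * T.y * c = T.y by rw [(T.mem_L.mp hc).inv_left.eq, mul_assoc, inv_mul_cancel, mul_one], hg]

theorem card_norm : Nat.card (Subgroup.normalizer (T.A : Set G)) = T.good.ncard * 87480 := by
  set N := Subgroup.normalizer (T.A : Set G)
  letI : MulAction N G := MulAction.compHom G (MulAut.conj.comp N.subtype)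
  have hs : MulAction.stabilizer N T.y = (T.L ⊓ N).subgroupOf N := by
    ext n
    rw [MulAction.mem_stabilizer_iff, Subgroup.mem_subgroupOf, Subgroup.mem_inf]
    show (n : G) * T.y * (n : G)⁻¹ = T.y ↔ _
    rw [T.mem_L, mul_inv_eq_iff_eq_mul]
    exact ⟨fun h => ⟨h, n.2⟩, fun h => h.1⟩
  have ho : MulAction.orbit N T.y = T.good := by
    ext a
    constructor
    · rintro ⟨n, rfl⟩
      exact ⟨T.mem_norm.mp n.2 _ T.y_A, isConj_iff.mpr ⟨n, rfl⟩⟩
    · intro h
      obtain ⟨n, hn, e⟩ := T.good_orbit h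
      exact ⟨⟨n, hn⟩, e⟩
  have h := MulAction.index_stabilizer N T.y
  rw [ho, hs] at h
  have hc := Subgroup.card_mul_index ((T.L ⊓ N).subgroupOf N)
  rw [h, Nat.card_congr (Subgroup.subgroupOfEquivOfLe inf_le_right).toEquiv, T.normL,
    T.card_pre Mbar_le, card_Mbar] at hc
  rw [← hc, mul_comm]

theorem not_sixty_two : T.good.ncard ≠ 62 := by
  intro h
  haveI : Fact (Nat.Prime 31) := ⟨by norm_num⟩
  set N := Subgroup.normalizer (T.A : Set G) with hN
  obtain ⟨x, hx⟩ := exists_prime_orderOf_dvd_card' (G := N) 31 (by rw [T.card_norm, h]; norm_num)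
  set X := Subgroup.zpowers x with hX
  letI : MulAction X T.A :=
    { smul := fun k a => ⟨((k : N) : G) * a * ((k : N) : G)⁻¹, T.mem_norm.mp (k : N).2 _ a.2⟩
      one_smul := fun a => Subtype.ext (show (1 : G) * a * (1 : G)⁻¹ = a by group)
      mul_smul := fun k l a => Subtype.ext (show ((k : N) : G) * ((l : N) : G) * a * (((k : N) : G) * ((l : N) : G))⁻¹ =
        ((k : N) : G) * (((l : N) : G) * a * ((l : N) : G)⁻¹) * ((k : N) : G)⁻¹ by group) }
  have hp : IsPGroup 31 X := IsPGroup.of_card (n := 1) (by rw [Nat.card_zpowers, hx, pow_one])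
  have hmod := hp.card_modEq_card_fixedPoints T.A
  rw [T.card_A] at hmod
  set F := T.A ⊓ Subgroup.centralizer ({((x : N) : G)} : Set G) with hF
  have hFc : Nat.card (MulAction.fixedPoints X T.A) = Nat.card F := by
    refine Nat.card_congr
      { toFun := fun a => ⟨(a.1 : G), a.1.2, ?_⟩
        invFun := fun a => ⟨⟨(a : G), a.2.1⟩, ?_⟩
        left_inv := fun a => rfl
        right_inv := fun a => rfl }
    · have e : ((x : N) : G) * (a.1 : G) * ((x : N) : G)⁻¹ = a.1 :=
        congrArg Subtype.val (a.2 ⟨x, Subgroup.mem_zpowers x⟩)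
      exact Subgroup.mem_centralizer_singleton_iff.mpr (mul_inv_eq_iff_eq_mul.mp e).symm
    · rintro ⟨k, hk⟩
      obtain ⟨n, rfl⟩ := Subgroup.mem_zpowers_iff.mp hk
      refine Subtype.ext ?_
      show ((x ^ n : N) : G) * (a : G) * ((x ^ n : N) : G)⁻¹ = a
      have hc : Commute (a : G) ((x : N) : G) := Subgroup.mem_centralizer_singleton_iff.mp a.2.2
      rw [Subgroup.coe_zpow, (hc.zpow_right n).symm.eq, mul_inv_cancel_right]
  rw [hFc] at hmod
  have hd : Nat.card F ∣ 3 ^ 5 := by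
    have := Subgroup.card_dvd_of_le (show F ≤ T.A from inf_le_left)
    rwa [T.card_A] at this
  obtain ⟨k, hk, e⟩ := (Nat.dvd_prime_pow Nat.prime_three).mp hd
  rw [e] at hmod
  have hk5 : k = 5 := by
    unfold Nat.ModEq at hmod
    interval_cases k <;> first | rfl | (norm_num at hmod)
  have hFA : F = T.A := Subgroup.eq_of_le_of_card_ge inf_le_left (by rw [e, hk5, T.card_A]; norm_num)
  have hxA : ((x : N) : G) ∈ T.A := T.self_cent fun a ha => by
    have h' : a ∈ F := hFA.symm ▸ ha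
    exact (Subgroup.mem_centralizer_singleton_iff.mp h'.2 : Commute a ((x : N) : G)).symm
  have h3 := orderOf_dvd_of_pow_eq_one (T.A_cube hxA)
  rw [Subgroup.orderOf_coe, hx] at h3
  norm_num at h3

/-- the hypothesis: six conjugates centralised by an involution lifting the reference involution -/
structure SixHyp : Prop where
  hy : IsConj T.y T.y⁻¹
  hsix : ∃ ι : G, Commute ι T.y ∧ T.fA ι = pi1 iotaK ∧ ι * ι = 1 ∧ {a | a ∈ T.good ∧ Commute a ι}.ncard = 6

variable {T}

theorem SixHyp.good_spec (H : SixHyp T) :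
    T.good.ncard = 22 ∧ (∀ e, kind e = 1 → T.mult e = 1) ∧ ∀ e, kind e = 2 ∨ kind e = 3 → T.mult e = 0 := by
  obtain ⟨ι, h1, h2, h3, h4⟩ := H.hsix
  exact (T.good_cases h1 h2 h3 H.hy h4).resolve_right T.not_sixty_two

theorem SixHyp.card_norm (H : SixHyp T) : Nat.card (Subgroup.normalizer (T.A : Set G)) = 243 * 7920 := by
  rw [T.card_norm, H.good_spec.1]

/-- the pairs of conjugates -/
def pairs (T : Cover G) : Set (Subgroup G) := Subgroup.zpowers '' T.good

theorem pair_eq {a b : G} (ha : a ∈ T.A) (hb1 : b ≠ 1) (h : Subgroup.zpowers a = Subgroup.zpowers b) :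
    b = a ∨ b = a⁻¹ := by
  obtain ⟨n, hn⟩ := mem_powers_iff_mem_zpowers.mpr (h.symm ▸ Subgroup.mem_zpowers b)
  change a ^ n = b at hn
  rw [show n = 3 * (n / 3) + n % 3 by omega, pow_add, pow_mul, T.A_cube ha, one_pow, one_mul] at hn
  have := Nat.mod_lt n (show 0 < 3 by norm_num)
  interval_cases hm : n % 3
  · exact absurd (hn.symm.trans (pow_zero a)) hb1
  · exact Or.inl (hn.symm.trans (pow_one a))
  · exact Or.inr (hn.symm.trans (eq_inv_of_mul_eq_one_left (by rw [← pow_succ]; exact T.A_cube ha)))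

theorem good_ne_one {a : G} (h : a ∈ T.good) : a ≠ 1 := fun e => by
  have := h.2
  rw [e, isConj_one_left] at this
  exact T.y1 this

theorem SixHyp.card_pairs (H : SixHyp T) : (pairs T).ncard = 11 := by
  classical
  haveI : Fintype G := Fintype.ofFinite G
  haveI : Fintype (Subgroup G) := Fintype.ofFinite _
  have h22 := H.good_spec.1
  set s : Finset G := Finset.univ.filter fun a => a ∈ T.good with hs
  have hsc : s.card = 22 := by rw [← h22, Set.ncard_eq_toFinset_card']; congr 1; ext a; simp [hs]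
  have hP : pairs T = ((s.image Subgroup.zpowers : Finset (Subgroup G)) : Set (Subgroup G)) := by
    ext Z; simp [pairs, hs]
  rw [hP, Set.ncard_coe_finset]
  have hfib : ∀ Z ∈ s.image Subgroup.zpowers, (s.filter fun a => Subgroup.zpowers a = Z).card = 2 := by
    intro Z hZ
    obtain ⟨a, ha, rfl⟩ := Finset.mem_image.mp hZ
    have hag := (Finset.mem_filter.mp ha).2
    rw [Finset.card_eq_two]
    refine ⟨a, a⁻¹, fun e => ?_, ?_⟩
    · have h2 : a * a = 1 := by nth_rw 1 [e]; exact inv_mul_cancel _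
      have := T.A_cube hag.1
      rw [pow_succ, sq, h2, one_mul] at this
      exact good_ne_one hag this
    · ext b
      simp only [hs, Finset.mem_filter, Finset.mem_univ, true_and, Finset.mem_insert, Finset.mem_singleton]
      constructor
      · rintro ⟨hb, e⟩; exact pair_eq hag.1 (good_ne_one hb) e.symm
      · rintro (rfl | rfl)
        exacts [⟨hag, rfl⟩, ⟨T.good_inv H.hy hag, Subgroup.zpowers_inv⟩]
  have h := Finset.card_eq_sum_card_image Subgroup.zpowers s
  rw [Finset.sum_congr rfl hfib, hsc, Finset.sum_const, smul_eq_mul] at h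
  omega

/-- the action of the normaliser on the pairs -/
noncomputable def pairHom (T : Cover G) : Subgroup.normalizer (T.A : Set G) →* Equiv.Perm (pairs T) :=
  MonoidHom.toHomPerm
    { toFun := fun n Z => ⟨(Z : Subgroup G).map (MulAut.conj (n : G)).toMonoidHom, by
        obtain ⟨a, ha, e⟩ := Z.2
        refine ⟨(n : G) * a * (n : G)⁻¹, ⟨T.mem_norm.mp n.2 a ha.1, ha.2.trans (isConj_iff.mpr ⟨_, rfl⟩)⟩, ?_⟩
        rw [← e, MonoidHom.map_zpowers]; rfl⟩
      map_one' := funext fun Z => Subtype.ext (by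
        show (Z : Subgroup G).map (MulAut.conj (1 : G)).toMonoidHom = _
        rw [map_one]; exact Subgroup.map_id _)
      map_mul' := fun n m => funext fun Z => Subtype.ext (by
        show (Z : Subgroup G).map (MulAut.conj ((n : G) * m)).toMonoidHom =
          ((Z : Subgroup G).map (MulAut.conj (m : G)).toMonoidHom).map (MulAut.conj (n : G)).toMonoidHom
        rw [Subgroup.map_map, map_mul]; rfl) }

theorem pairHom_apply (n : Subgroup.normalizer (T.A : Set G)) {a : G} (ha : a ∈ T.good) :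
    ((pairHom T n ⟨Subgroup.zpowers a, a, ha, rfl⟩ : pairs T) : Subgroup G) =
      Subgroup.zpowers ((n : G) * a * (n : G)⁻¹) := by
  show (Subgroup.zpowers a).map (MulAut.conj (n : G)).toMonoidHom = _
  rw [MonoidHom.map_zpowers]; rfl

/-- a conjugate away from the element has an image of the first kind -/
theorem SixHyp.kind_of_good (H : SixHyp T) {a : G} (ha : a ∈ T.good)
    (hne : Subgroup.zpowers a ≠ Subgroup.zpowers T.y) : ∃ e, δ e = T.fA a ∧ kind e = 1 := by
  obtain ⟨e, he⟩ := mem_Dbar.mp (T.fA_Dbar ha.1)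
  refine ⟨e, he, ?_⟩
  have hk0 : kind e ≠ 0 := fun hk => by
    rcases T.inv_zpow_cases ((T.fA_one_iff (T.A_le ha.1)).mp (he ▸ (kind_zero_iff e).mp hk)) with e' | e' | e'
    · exact good_ne_one ha e'
    · exact hne (by rw [e'])
    · exact hne (by rw [e', Subgroup.zpowers_inv])
  by_contra h1
  have h0 := H.good_spec.2.2 e (by have := kind_lt e; omega)
  rw [mult, Set.ncard_eq_zero] at h0
  exact (Set.eq_empty_iff_forall_notMem.mp h0) a ⟨ha, he.symm⟩

theorem SixHyp.unique_good (H : SixHyp T) {a b : G} (ha : a ∈ T.good) (hb : b ∈ T.good) {e : Fin 243}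
    (hk : kind e = 1) (hae : T.fA a = δ e) (hbe : T.fA b = δ e) : a = b := by
  obtain ⟨c, hc⟩ := Set.ncard_eq_one.mp (H.good_spec.2.1 e hk)
  have h1 : a ∈ ({c} : Set G) := hc ▸ ⟨ha, hae⟩
  have h2 : b ∈ ({c} : Set G) := hc ▸ ⟨hb, hbe⟩
  exact h1.trans h2.symm

/-- the stabiliser of the element is transitive on the other pairs -/
theorem SixHyp.move (H : SixHyp T) {b c : G} (hb : b ∈ T.good) (hc : c ∈ T.good)
    (hbn : Subgroup.zpowers b ≠ Subgroup.zpowers T.y) (hcn : Subgroup.zpowers c ≠ Subgroup.zpowers T.y) :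
    ∃ n ∈ Subgroup.normalizer (T.A : Set G), Commute n T.y ∧ n * b * n⁻¹ = c := by
  obtain ⟨e, he, hk⟩ := H.kind_of_good hb hbn
  obtain ⟨e', he', hk'⟩ := H.kind_of_good hc hcn
  have mv : ∀ {a : G} {e : Fin 243}, a ∈ T.good → δ e = T.fA a → kind e = 1 →
      ∃ n : T.L, T.f n ∈ Mbar ∧ T.f n * δ (krep 1) * (T.f n)⁻¹ = T.fA a := by
    intro a e ha he hk
    obtain ⟨p, hp, h⟩ := kind_rot e
    rw [hk] at h
    obtain ⟨g, hg⟩ := T.exists_lift (σ := pi1 (kP p hp)) ⟨_, rfl⟩
    refine ⟨g, ?_, by rw [hg, δ_conj hp h, he]⟩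
    rw [hg]
    exact ⟨kP p hp, Subgroup.mem_subgroupOf.mpr ((mem_MM (A := U43.pm p)).mpr ⟨pm_mem p, by rw [mp_pm]; exact hp⟩), rfl⟩
  obtain ⟨n, hn, hne⟩ := mv hb he hk
  obtain ⟨m, hm, hme⟩ := mv hc he' hk'
  set w := m * n⁻¹ with hw
  have hwM : T.f w ∈ Mbar := by rw [hw, map_mul, map_inv]; exact mul_mem hm (inv_mem hn)
  have hwN : (w : G) ∈ Subgroup.normalizer (T.A : Set G) := T.mem_norm.mpr ((T.normalises_iff w.2).mpr hwM)
  refine ⟨w, hwN, T.y_comm w, H.unique_good ⟨T.mem_norm.mp hwN b hb.1, hb.2.trans (isConj_iff.mpr ⟨_, rfl⟩)⟩ hc hk' ?_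
    he'.symm⟩
  rw [T.fA_conj w (T.A_le hb.1), ← hne, he', ← hme, hw, map_mul, map_inv]
  group

/-- an element fixing the element and all pairs lies in the subgroup -/
theorem SixHyp.faithful (H : SixHyp T) {n : G} (hn : n ∈ Subgroup.normalizer (T.A : Set G)) (hy : Commute n T.y)
    (hfix : ∀ a ∈ T.good, n * a * n⁻¹ = a ∨ n * a * n⁻¹ = a⁻¹) : n ∈ T.A := by
  have hL : n ∈ T.L := T.mem_L.mpr hy
  obtain ⟨p, hp, d, hd, e⟩ := exists_perm ((T.normalises_iff hL).mp (T.mem_norm.mp hn))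
  have hp1 : p = 1 := by
    refine trip_perm hp fun e0 hk i j hij => ?_
    obtain ⟨a, ha, hae⟩ : ∃ a, a ∈ T.good ∧ T.fA a = δ e0 := by
      have h := H.good_spec.2.1 e0 hk
      rw [mult, Set.ncard_eq_one] at h
      obtain ⟨a, ha⟩ := h
      exact ⟨a, (ha.symm ▸ Set.mem_singleton a : a ∈ {a | a ∈ T.good ∧ T.fA a = δ e0})⟩
    have hok : okV (rotV p (fv e0)) = true := by
      have h0 := (decide_eq_true_iff).mp (fv_ok e0).1
      rw [okV, decide_eq_true_iff]
      refine ⟨fun j => h0.1 _, ?_⟩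
      have e1 : ∏ j, rotV p (fv e0) j = ∏ j, fv e0 j := Equiv.prod_comp p.symm (fv e0)
      rw [Fin.prod_univ_six, Fin.prod_univ_six] at e1
      exact e1.trans h0.2
    have him : T.fA (n * a * n⁻¹) = δ (ev (rotV p (fv e0))) := by
      rw [T.fA_conj ⟨n, hL⟩ (T.A_le ha.1), hae, e, conj_δ hd]
      exact δ_conj hp ⟨1, one_ne_zero, fun m => by rw [fv_ev hok, one_mul]⟩
    rcases hfix a ha with h | h
    · rw [h, hae, δ_eq, fv_ev hok] at him
      obtain ⟨c, hc, hj⟩ := him
      have h1 := hj (p i); have h2 := hj (p j)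
      simp only [rotV, Equiv.symm_apply_apply] at h1 h2
      rw [h1, h2, hij]
    · have hinv : T.fA a⁻¹ = (T.fA a)⁻¹ := by
        rw [T.fA_eq (T.A_le ha.1), T.fA_eq (inv_mem (T.A_le ha.1)), ← map_inv]; rfl
      have hok2 : okV (fun m => fv e0 m * fv e0 m) = true := by
        have : ∀ e : Fin 243, okV (fun m => fv e m * fv e m) = true := by decide +kernel
        exact this e0
      have hd2 : (δ e0)⁻¹ = δ (ev fun m => fv e0 m * fv e0 m) := by
        refine inv_eq_of_mul_eq_one_right ?_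
        rw [← δ_zero]
        refine (δ_mul fun m => ?_).symm
        have h3 : ∀ x : F4, x ≠ 0 → (1 : F4) = x * (x * x) := by decide
        rw [fv_ev hok2, fv_zero]
        exact h3 _ (((decide_eq_true_iff).mp (fv_ok e0).1).1 m)
      rw [h, hinv, hae, hd2, δ_eq, fv_ev hok, fv_ev hok2] at him
      obtain ⟨c, hc, hj⟩ := him
      have h1 := hj (p i); have h2 := hj (p j)
      simp only [rotV, Equiv.symm_apply_apply] at h1 h2
      have hsq : ∀ x y : F4, x * x = y * y → x = y := by decide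
      exact hsq _ _ (by rw [h1, h2, hij])
  subst hp1
  refine T.mem_A.mpr ⟨hL, ?_⟩
  rw [e, show kP 1 hp = 1 from Subtype.ext U43.pm_one, map_one, one_mul]
  exact hd

/-- The quotient of the normaliser is the smallest Mathieu group. -/
theorem SixHyp.quotient_iso (H : SixHyp T) [(T.A.subgroupOf (Subgroup.normalizer (T.A : Set G))).Normal] :
    Cfsg.Spor.IsoM11 (Subgroup.normalizer (T.A : Set G) ⧸ T.A.subgroupOf (Subgroup.normalizer (T.A : Set G))) := by
  classical
  set N := Subgroup.normalizer (T.A : Set G) with hN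
  obtain ⟨eF⟩ : Nonempty (pairs T ≃ Fin 11) := by
    refine ⟨(Finite.equivFin _).trans (finCongr ?_)⟩
    rw [← H.card_pairs, ← Nat.card_coe_set_eq]
  let h11 : N →* Equiv.Perm (Fin 11) := eF.permCongrHom.toMonoidHom.comp (pairHom T)
  have hker : T.A.subgroupOf N ≤ h11.ker := by
    intro x hx
    rw [Subgroup.mem_subgroupOf] at hx
    rw [MonoidHom.mem_ker]
    have : pairHom T x = 1 := Equiv.ext fun Z => Subtype.ext (by
      obtain ⟨_, a, ha, rfl⟩ := Z
      rw [Equiv.Perm.one_apply, pairHom_apply x ha, (T.A_comm hx ha.1).eq, mul_inv_cancel_right])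
    show eF.permCongrHom (pairHom T x) = 1
    rw [this, map_one]
  let φ := QuotientGroup.lift (T.A.subgroupOf N) h11 hker
  have hfix : ∀ n : N, h11 n = 1 → ∀ a ∈ T.good, (n : G) * a * (n : G)⁻¹ = a ∨ (n : G) * a * (n : G)⁻¹ = a⁻¹ := by
    intro n hn a ha
    have h1 : pairHom T n = 1 := eF.permCongrHom.injective (by rw [map_one]; exact hn)
    have e := pairHom_apply n ha
    rw [h1, Equiv.Perm.one_apply] at e
    exact pair_eq ha.1 (fun e' => good_ne_one ha (conj_eq_one_iff.mp e')) e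
  have hk2 : Nat.card φ.ker ≤ 2 := by
    have huniq : ∀ n n' : N, h11 n = 1 → h11 n' = 1 → n ∉ T.A.subgroupOf N → n' ∉ T.A.subgroupOf N →
        n⁻¹ * n' ∈ T.A.subgroupOf N := by
      intro n n' h1 h2 hn hn'
      have inv_of : ∀ n : N, h11 n = 1 → n ∉ T.A.subgroupOf N → (n : G) * T.y * (n : G)⁻¹ = T.y⁻¹ := by
        intro n h1 hn
        rcases hfix n h1 T.y ⟨T.y_A, IsConj.refl _⟩ with e | e
        · exact absurd (Subgroup.mem_subgroupOf.mpr
            (H.faithful n.2 (mul_inv_eq_iff_eq_mul.mp e) (hfix n h1))) hn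
        · exact e
      rw [Subgroup.mem_subgroupOf]
      have h12 : h11 (n⁻¹ * n') = 1 := by rw [map_mul, map_inv, h1, h2, inv_one, one_mul]
      refine H.faithful (n⁻¹ * n').2 ?_ (hfix _ h12)
      rcases hfix _ h12 T.y ⟨T.y_A, IsConj.refl _⟩ with e | e
      · exact mul_inv_eq_iff_eq_mul.mp e
      · exfalso
        have e1 := inv_of n h1 hn
        have e2 := inv_of n' h2 hn'
        apply T.y_ne_inv
        have e3 : ((n⁻¹ * n' : N) : G) * T.y * ((n⁻¹ * n' : N) : G)⁻¹ = T.y := by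
          push_cast
          rw [show (n : G)⁻¹ * n' * T.y * ((n : G)⁻¹ * n')⁻¹ = (n : G)⁻¹ * ((n' : G) * T.y * (n' : G)⁻¹) * n by group,
            e2, ← e1]
          group
        exact e3.symm.trans e
    have key : ∀ k k' : φ.ker, (k : N ⧸ T.A.subgroupOf N) ≠ 1 → (k' : N ⧸ T.A.subgroupOf N) ≠ 1 → k = k' := by
      rintro ⟨k, hk⟩ ⟨k', hk'⟩ hne hne'
      obtain ⟨n, rfl⟩ := QuotientGroup.mk_surjective k
      obtain ⟨n', rfl⟩ := QuotientGroup.mk_surjective k'
      refine Subtype.ext (QuotientGroup.eq.mpr (huniq n n' (MonoidHom.mem_ker.mp hk) (MonoidHom.mem_ker.mp hk') ?_ ?_))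
      · exact fun h => hne ((QuotientGroup.eq_one_iff n).mpr h)
      · exact fun h => hne' ((QuotientGroup.eq_one_iff n').mpr h)
    let g : φ.ker → Bool := fun k => decide ((k : N ⧸ T.A.subgroupOf N) = 1)
    have hg : Function.Injective g := fun k k' e => by
      by_cases h : (k : N ⧸ T.A.subgroupOf N) = 1
      · simp only [g, h, decide_true, true_eq_decide_iff] at e
        exact Subtype.ext (h.trans e.symm)
      · simp only [g, h, decide_false, false_eq_decide_iff] at e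
        exact key k k' h e
    simpa using Nat.card_le_card_of_injective g hg
  have hcard : Nat.card (N ⧸ T.A.subgroupOf N) = 7920 := by
    have h := Subgroup.card_eq_card_quotient_mul_card_subgroup (T.A.subgroupOf N)
    rw [H.card_norm, Nat.card_congr (Subgroup.subgroupOfEquivOfLe T.A_le_norm).toEquiv, T.card_A] at h
    omega
  refine iso_eleven hcard φ hk2 fun a b c hba hca => ?_
  obtain ⟨Za, rfl⟩ := eF.surjective a
  obtain ⟨Zb, rfl⟩ := eF.surjective b
  obtain ⟨Zc, rfl⟩ := eF.surjective c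
  obtain ⟨_, a, ha, rfl⟩ := Za
  obtain ⟨_, b, hb, rfl⟩ := Zb
  obtain ⟨_, c, hc, rfl⟩ := Zc
  obtain ⟨n0, hn0, e0⟩ := T.good_orbit ha
  have hg : ∀ {x : G}, x ∈ T.good → n0⁻¹ * x * n0 ∈ T.good := fun {x} hx =>
    ⟨by simpa using T.mem_norm.mp (inv_mem hn0) x hx.1, hx.2.trans (isConj_iff.mpr ⟨n0⁻¹, by group⟩)⟩
  have hne : ∀ {x : G} (hx : x ∈ T.good), eF ⟨_, x, hx, rfl⟩ ≠ eF ⟨_, a, ha, rfl⟩ →
      Subgroup.zpowers (n0⁻¹ * x * n0) ≠ Subgroup.zpowers T.y := fun {x} hx h e => h (congrArg eF (Subtype.ext (by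
    show Subgroup.zpowers x = Subgroup.zpowers a
    have := congrArg (Subgroup.map (MulAut.conj n0).toMonoidHom) e
    rw [MonoidHom.map_zpowers, MonoidHom.map_zpowers] at this
    change Subgroup.zpowers (n0 * (n0⁻¹ * x * n0) * n0⁻¹) = Subgroup.zpowers (n0 * T.y * n0⁻¹) at this
    rwa [show n0 * (n0⁻¹ * x * n0) * n0⁻¹ = x by group, e0] at this)))
  obtain ⟨w, hw, hwy, hwb⟩ := H.move (hg hb) (hg hc) (hne hb hba) (hne hc hca)
  refine ⟨QuotientGroup.mk (⟨n0, hn0⟩ * ⟨w, hw⟩ * (⟨n0, hn0⟩ : N)⁻¹), ?_, ?_⟩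
  all_goals
    show eF.permCongrHom (pairHom T _) (eF _) = eF _
    simp only [Equiv.permCongrHom_coe, Equiv.permCongr_apply, Equiv.symm_apply_apply]
    congr 1
    apply Subtype.ext
  · rw [pairHom_apply _ ha]
    congr 1
    push_cast
    rw [show n0 * w * n0⁻¹ * a * (n0 * w * n0⁻¹)⁻¹ = n0 * (w * (n0⁻¹ * a * n0) * w⁻¹) * n0⁻¹ by group,
      show n0⁻¹ * a * n0 = T.y by rw [← e0]; group, hwy.eq, mul_inv_cancel_right, e0]
  · rw [pairHom_apply _ hb]
    congr 1
    push_cast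
    rw [show n0 * w * n0⁻¹ * b * (n0 * w * n0⁻¹)⁻¹ = n0 * (w * (n0⁻¹ * b * n0) * w⁻¹) * n0⁻¹ by group, hwb]
    group

/-- The Sylow subgroup of the centraliser is a Sylow subgroup. -/
theorem SixHyp.sylow (H : SixHyp T) : ¬ 3 ∣ T.P3.index := by
  haveI : Fact (Nat.Prime 3) := ⟨Nat.prime_three⟩
  obtain ⟨S, hS⟩ := (IsPGroup.of_card (n := 7) (by rw [T.card_P3]; norm_num) : IsPGroup 3 T.P3).exists_le_sylow
  suffices he : (S : Subgroup G) = T.P3 by rw [← he]; exact S.not_dvd_index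
  by_contra hne
  have hlt : T.P3.subgroupOf S < ⊤ := lt_top_iff_ne_top.mpr fun e => hne (le_antisymm (Subgroup.subgroupOf_eq_top.mp e) hS)
  haveI : Group.IsNilpotent (S : Subgroup G) := IsPGroup.isNilpotent S.2
  obtain ⟨x, hx, hxn⟩ := SetLike.exists_of_lt
    (Group.normalizerCondition_of_isNilpotent (G := (S : Subgroup G)) (T.P3.subgroupOf S) hlt)
  have hnorm : (Subgroup.normalizer ((T.P3.subgroupOf S : Subgroup (S : Subgroup G)) : Set (S : Subgroup G))).map
      (S : Subgroup G).subtype ≤ Subgroup.normalizer (T.A : Set G) := by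
    rintro _ ⟨w, hw, rfl⟩
    have hB : T.A.map (MulAut.conj (w : G)).toMonoidHom = T.A := by
      refine T.A_unique ?_ ?_ ?_
      · rintro _ ⟨a, ha, rfl⟩
        have haS : a ∈ (S : Subgroup G) := hS (T.A_le_P3 ha)
        have := (Subgroup.mem_normalizer_iff.mp hw ⟨a, haS⟩).mp (Subgroup.mem_subgroupOf.mpr (T.A_le_P3 ha))
        exact Subgroup.mem_subgroupOf.mp this
      · rw [Subgroup.card_map_of_injective (show Function.Injective (MulAut.conj (w : G)).toMonoidHom from
          (MulAut.conj (w : G)).injective), T.card_A]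
      · rintro _ ⟨a, ha, rfl⟩ _ ⟨b, hb, rfl⟩; exact (T.A_comm ha hb).map _
    exact T.mem_norm.mpr fun a ha => hB ▸ ⟨a, ha, rfl⟩
  set Y := (Subgroup.normalizer ((T.P3.subgroupOf S : Subgroup (S : Subgroup G)) : Set (S : Subgroup G))).map
    (S : Subgroup G).subtype with hY
  have hPY : T.P3 ≤ Y := fun g hg => ⟨⟨g, hS hg⟩, Subgroup.le_normalizer (Subgroup.mem_subgroupOf.mpr hg), rfl⟩
  have hp : IsPGroup 3 Y := S.2.to_le (Subgroup.map_subtype_le _)
  obtain ⟨k, hk⟩ := IsPGroup.iff_card.mp hp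
  have h7 : k ≤ 7 := by
    have hd := Subgroup.card_dvd_of_le hnorm
    rw [H.card_norm, hk, show 243 * 7920 = 3 ^ 7 * 880 by norm_num] at hd
    by_contra h
    have := (pow_dvd_pow 3 (show 8 ≤ k by omega)).trans hd
    norm_num at this
  have heq : T.P3 = Y := Subgroup.eq_of_le_of_card_ge hPY (by
    rw [T.card_P3, hk]; exact (Nat.pow_le_pow_right (by norm_num) h7).trans (by norm_num))
  exact hxn (Subgroup.mem_subgroupOf.mpr (heq ▸ ⟨x, hx, rfl⟩))

end Cover

end Cfsg.Agent.Spor.SuzThree
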