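import Cfsg.Agent.Lib.Spor.SuzThree.Six
import Cfsg.Agent.Lib.Spor.SuzThree.Local

/-!
Groups of Suzuki sporadic type: the elementary abelian subgroup of order 243 in the Sylow 3-subgroup of the
normaliser of a subgroup of order three.
-/

set_option autoImplicit false
set_option maxRecDepth 100000

namespace Cfsg.Agent.Spor.SuzThree

open Cfsg.Agent.Spor.U43
open Cfsg.Agent.Spor.SuzT Cfsg.Agent.Spor.SuzT.Three

universe u

variable {G : Type u} [Group G] [Finite G]

/-- an involution of the centraliser is conjugate to one over the reference involution -/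
theorem Cover.exists_iota (T : Cover G) {t : G} (ht : Commute t T.y) (h2 : t * t = 1) (h1 : t ≠ 1) :
    ∃ l : G, Commute l T.y ∧ T.fA (l * t * l⁻¹) = pi1 iotaK := by
  obtain ⟨x, hx⟩ : T.f ⟨t, T.mem_L.mpr ht⟩ ∈ U280 := by rw [← T.range]; exact ⟨_, rfl⟩
  have hne : pi1 x ≠ 1 := fun e => by
    obtain ⟨k, hk⟩ := Subgroup.mem_zpowers_iff.mp ((T.ker ⟨t, T.mem_L.mpr ht⟩).mp (hx.symm.trans e))
    have h3 : t ^ 3 = 1 := by
      rw [← show T.y ^ k = t from hk, ← zpow_natCast, ← zpow_mul, mul_comm, zpow_mul, zpow_natCast, T.y3, one_zpow]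
    rw [pow_succ, sq, h2, one_mul] at h3
    exact h1 h3
  obtain ⟨g, hg⟩ := invol_conj (x := x) (by
    rw [hx, ← map_mul, show (⟨t, T.mem_L.mpr ht⟩ : T.L) * ⟨t, T.mem_L.mpr ht⟩ = 1 from Subtype.ext h2, map_one]) hne
  obtain ⟨l, hl⟩ := T.exists_lift (σ := pi1 g) ⟨g, rfl⟩
  refine ⟨l, T.y_comm l, ?_⟩
  rw [T.fA_conj l (T.mem_L.mpr ht), T.fA_eq (T.mem_L.mpr ht), hl, ← hx, ← map_inv, ← map_mul, ← map_mul, hg]

/-- the same cover read through a conjugation -/
noncomputable def Cover.twist (T : Cover G) (c : T.L) : Cover G where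
  y := T.y
  y3 := T.y3
  y1 := T.y1
  f := (MulAut.conj (T.f c)).toMonoidHom.comp T.f
  range := by
    ext σ
    constructor
    · rintro ⟨g, rfl⟩
      rw [← T.range]
      exact ⟨c * g * c⁻¹, by rw [map_mul, map_mul, map_inv]; rfl⟩
    · intro h
      obtain ⟨g, hg⟩ := T.exists_lift h
      exact ⟨c⁻¹ * g * c, by
        show T.f c * T.f (c⁻¹ * g * c) * (T.f c)⁻¹ = σ
        rw [map_mul, map_mul, map_inv, hg]; group⟩
  ker g := by
    rw [← T.ker g]
    show T.f c * T.f g * (T.f c)⁻¹ = 1 ↔ _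
    exact conj_eq_one_iff

theorem Cover.twist_P3 (T : Cover G) (c : T.L) {P : Subgroup G} (hP : P.map (MulAut.conj (c : G)).toMonoidHom = T.P3) :
    (T.twist c).P3 = P := by
  ext g
  constructor
  · intro hg
    obtain ⟨h, hh⟩ := (T.twist c).mem_pre.mp hg
    have e : T.f c * T.f ⟨g, h⟩ * (T.f c)⁻¹ ∈ Pbar := hh
    have h' : (c : G) * g * (c : G)⁻¹ ∈ T.P3 := T.mem_pre.mpr ⟨_, by rw [T.conj_f c (a := g) h]; exact e⟩
    rw [← hP] at h'
    obtain ⟨p, hp, hpe⟩ := h'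
    change (c : G) * p * (c : G)⁻¹ = (c : G) * g * (c : G)⁻¹ at hpe
    rwa [← mul_left_cancel (mul_right_cancel hpe)]
  · intro hg
    have h' : (c : G) * g * (c : G)⁻¹ ∈ T.P3 := hP ▸ ⟨g, hg, rfl⟩
    obtain ⟨h, hh⟩ := T.mem_pre.mp h'
    have hgL : g ∈ T.L := by
      have := mul_mem (mul_mem (inv_mem c.2) h) c.2
      rwa [show (c : G)⁻¹ * ((c : G) * g * (c : G)⁻¹) * c = g by group] at this
    refine (T.twist c).mem_pre.mpr ⟨hgL, ?_⟩
    show T.f c * T.f ⟨g, hgL⟩ * (T.f c)⁻¹ ∈ Pbar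
    rwa [← T.conj_f c hgL]

variable {z : G} {Q : Subgroup G} (K : Ctx z Q)

theorem sixHyp (T : Cover G) (hT : T.y = K.y) : Cover.SixHyp T := by
  have hzy : Commute z T.y := hT ▸ K.hyz.symm
  obtain ⟨l, hly, hlf⟩ := T.exists_iota hzy (zz K.h) (z_ne K.h)
  set ι := l * z * l⁻¹ with hι
  have hιy : Commute ι T.y := (hly.mul_left hzy).mul_left hly.inv_left
  have hι2 : ι * ι = 1 := by rw [hι, show l * z * l⁻¹ * (l * z * l⁻¹) = l * (z * z) * l⁻¹ by group, zz K.h]; group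
  obtain ⟨hc, -⟩ := T.card_fixed hιy hlf hι2
  set B := T.A ⊓ Subgroup.centralizer ({ι} : Set G) with hB
  set S := B.map (MulAut.conj l⁻¹).toMonoidHom with hS
  have hmem : ∀ {a : G}, a ∈ B → Commute a ι := fun h => Subgroup.mem_centralizer_singleton_iff.mp h.2
  have hlyl : l⁻¹ * T.y * l = T.y := by rw [hly.inv_left.eq, mul_assoc, inv_mul_cancel, mul_one]
  have hS1 : ∀ s ∈ S, Commute s z ∧ Commute s K.y ∧ s ^ 3 = 1 := by
    rintro _ ⟨a, ha, rfl⟩
    have e1 := (Commute.conj_iff l⁻¹).2 (hmem ha)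
    have e2 := (Commute.conj_iff l⁻¹).2 (T.mem_L.mp (T.A_le ha.1))
    rw [inv_inv, hι, show l⁻¹ * (l * z * l⁻¹) * l = z by group] at e1
    rw [inv_inv, hlyl, hT] at e2
    simp only [MulEquiv.toMonoidHom_eq_coe, MonoidHom.coe_coe, MulAut.conj_apply, inv_inv]
    refine ⟨e1, e2, ?_⟩
    have := conj_pow (a := l⁻¹) (b := a) (i := 3)
    rw [inv_inv, T.A_cube ha.1] at this
    rw [this]; group
  have hy : K.y ∈ S :=
    ⟨T.y, ⟨T.y_A, Subgroup.mem_centralizer_singleton_iff.mpr hιy.symm⟩, by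
      simp only [MulEquiv.toMonoidHom_eq_coe, MonoidHom.coe_coe, MulAut.conj_apply, inv_inv]
      rw [hlyl, hT]⟩
  have h6 := six K (fun t t' a b c d e f => hT ▸ T.invol_L (hT ▸ a) (hT ▸ b) c d e f) S hS1
    (by rw [hS, Subgroup.card_map_of_injective (show Function.Injective (MulAut.conj l⁻¹).toMonoidHom from
      (MulAut.conj l⁻¹).injective), hc]) hy
  refine ⟨hT ▸ conj_y_inv K (IsConj.refl _), ι, hιy, hlf, hι2, ?_⟩
  rw [← h6]
  have hset : {a | a ∈ T.good ∧ Commute a ι} = (fun s => l * s * l⁻¹) '' {s | s ∈ S ∧ IsConj K.y s} := by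
    ext a
    constructor
    · rintro ⟨⟨ha, hya⟩, hc⟩
      exact ⟨l⁻¹ * a * l, ⟨⟨a, ⟨ha, Subgroup.mem_centralizer_singleton_iff.mpr hc⟩, by simp⟩,
        hT ▸ hya.trans (isConj_iff.mpr ⟨l⁻¹, by group⟩)⟩, by group⟩
    · rintro ⟨_, ⟨⟨b, hb, rfl⟩, h⟩, rfl⟩
      have e : l * ((MulAut.conj l⁻¹).toMonoidHom b) * l⁻¹ = b := by
        show l * (l⁻¹ * b * l⁻¹⁻¹) * l⁻¹ = b
        group
      simp only [Set.mem_setOf_eq, e]
      exact ⟨⟨hb.1, hT.symm ▸ h.trans (isConj_iff.mpr ⟨l, e⟩)⟩, hmem hb⟩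
  rw [hset, Set.ncard_image_of_injective _ fun a b e => mul_left_cancel (mul_right_cancel e)]

theorem exists_cover : ∃ T : Cover G, T.y = K.y := by
  haveI : Fact (Nat.Prime 3) := ⟨Nat.prime_three⟩
  letI : Fintype (GaloisField 3 2) := Fintype.ofFinite _
  have hF : Fintype.card (GaloisField 3 2) = 9 := by
    rw [← Nat.card_eq_fintype_card, GaloisField.card 3 2 two_ne_zero]; norm_num
  obtain ⟨-, ⟨e1⟩, -⟩ := K.main (GaloisField 3 2) hF
  obtain ⟨e2⟩ := pi1_range_card.2 (GaloisField 3 2) hF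
  let eL : ↥(Subgroup.centralizer ({K.y} : Set G)) ≃* K.L := MulEquiv.subgroupCongr (L_eq K).symm
  refine ⟨⟨K.y, K.y3, K.y_ne,
    pi1.range.subtype.comp (((e1.trans e2.symm).toMonoidHom.comp K.pr).comp eL.toMonoidHom), ?_, ?_⟩, rfl⟩
  · have hs : Function.Surjective (((e1.trans e2.symm).toMonoidHom.comp K.pr).comp eL.toMonoidHom) :=
      ((e1.trans e2.symm).surjective.comp (QuotientGroup.mk'_surjective K.P)).comp eL.surjective
    ext σ
    constructor
    · rintro ⟨g, rfl⟩; exact SetLike.coe_mem _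
    · intro h
      obtain ⟨g, hg⟩ := hs ⟨σ, h⟩
      exact ⟨g, congrArg Subtype.val hg⟩
  · intro g
    simp only [MonoidHom.comp_apply, MulEquiv.coe_toMonoidHom, Subgroup.coe_subtype, OneMemClass.coe_eq_one,
      MulEquiv.map_eq_one_iff]
    exact (QuotientGroup.eq_one_iff _).trans Subgroup.mem_subgroupOf

theorem card_normaliser (T : Cover G) (hT : T.y = K.y) :
    Nat.card (Subgroup.normalizer (Subgroup.zpowers K.y : Set G)) = 2 * Nat.card T.L ∧
      (T.L.subgroupOf (Subgroup.normalizer (Subgroup.zpowers K.y : Set G))).index = 2 := by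
  haveI : Fact (Nat.Prime 3) := ⟨Nat.prime_three⟩
  letI : Fintype (GaloisField 3 2) := Fintype.ofFinite _
  have hF : Fintype.card (GaloisField 3 2) = 9 := by
    rw [← Nat.card_eq_fintype_card, GaloisField.card 3 2 two_ne_zero]; norm_num
  obtain ⟨-, -, h2⟩ := K.main (GaloisField 3 2) hF
  have eL : T.L = K.L := by rw [L_eq K, Cover.L, hT]
  have hle : K.L ≤ Subgroup.normalizer (Subgroup.zpowers K.y : Set G) :=
    fun g hg => Subgroup.mem_normalizer_iff.mpr fun n => by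
      constructor
      · intro hn
        rwa [(Subgroup.mem_centralizer_iff.mp hg n hn).symm, mul_inv_cancel_right]
      · intro hn
        have := (Subgroup.mem_centralizer_iff.mp hg _ hn)
        have e : g * n * g⁻¹ = n := by
          calc g * n * g⁻¹ = g⁻¹ * ((g * n * g⁻¹) * g) := by rw [this]; group
            _ = n := by group
        rwa [e] at hn
  refine ⟨?_, eL ▸ h2⟩
  rw [eL, ← Subgroup.card_mul_index (K.L.subgroupOf _), Nat.card_congr (Subgroup.subgroupOfEquivOfLe hle).toEquiv]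
  rw [Subgroup.relIndex] at h2
  rw [h2, mul_comm]

/-- The theorem. -/
theorem main (W : Subgroup G) (hW : W = Subgroup.zpowers K.y)
    (P : Sylow 3 ↥(Subgroup.normalizer (W : Set G))) :
    ¬ 3 ∣ (((P : Subgroup ↥(Subgroup.normalizer (W : Set G)))).map (Subgroup.normalizer (W : Set G)).subtype).index ∧
    ∃ A : Subgroup G,
      A ≤ ((P : Subgroup ↥(Subgroup.normalizer (W : Set G)))).map (Subgroup.normalizer (W : Set G)).subtype ∧
      Cfsg.IsElementaryAbelian 3 A ∧ Nat.card A = 3 ^ 5 ∧ Subgroup.centralizer (A : Set G) = A ∧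
      ∃ _ : (A.subgroupOf (Subgroup.normalizer (A : Set G))).Normal,
        Cfsg.Spor.IsoM11 (↥(Subgroup.normalizer (A : Set G)) ⧸ A.subgroupOf (Subgroup.normalizer (A : Set G))) := by
  subst hW
  haveI : Fact (Nat.Prime 3) := ⟨Nat.prime_three⟩
  obtain ⟨T, hT⟩ := exists_cover K
  obtain ⟨hN, hidx⟩ := card_normaliser K T hT
  set P' := (P : Subgroup ↥(Subgroup.normalizer (Subgroup.zpowers K.y : Set G))).map
    (Subgroup.normalizer (Subgroup.zpowers K.y : Set G)).subtype with hP'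
  have hPL : P' ≤ T.L := by
    rintro _ ⟨p, hp, rfl⟩
    obtain ⟨k, hk⟩ := P.2 ⟨p, hp⟩
    have hk' : p ^ 3 ^ k = 1 := congrArg Subtype.val hk
    obtain ⟨m, hm⟩ : Even (3 ^ k + 1) := by
      rw [Nat.even_add_one, Nat.not_even_iff_odd]; exact (by decide : Odd 3).pow
    have hp2 : p = (p * p) ^ m := by
      rw [← sq, ← pow_mul, two_mul, ← hm, pow_succ, hk', one_mul]
    rw [hp2]
    exact Subgroup.mem_subgroupOf.mp (pow_mem (Subgroup.mul_self_mem_of_index_two hidx p) m)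
  have hfac : (Nat.card T.L).factorization 3 = 7 := by
    rw [T.card_L, show 3 * 3265920 = 3 ^ 7 * 4480 by norm_num]
    exact fact_three 7 4480 (by norm_num)
  have hPc : Nat.card P' = 3 ^ 7 := by
    rw [hP', Subgroup.card_map_of_injective (Subgroup.subtype_injective _), P.card_eq_multiplicity, hN, T.card_L,
      show 2 * (3 * 3265920) = 3 ^ 7 * 8960 by norm_num, fact_three 7 8960 (by norm_num)]
  obtain ⟨c, hc, hcP⟩ := U43.exists_conj_of_card (p := 3) (n := 7) (K := T.L) (P := P') (Q := T.P3) hfac hPL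
    (T.pre_le _) hPc (by rw [T.card_P3]; norm_num)
  set T' := T.twist ⟨c, hc⟩ with hT'
  have hP3 : T'.P3 = P' := T.twist_P3 ⟨c, hc⟩ hcP
  have H : Cover.SixHyp T' := sixHyp K T' hT
  refine ⟨?_, T'.A, ?_, ⟨⟨⟨fun a b => Subtype.ext (T'.A_comm a.2 b.2).eq⟩⟩, fun a ha =>
    T'.A_cube ha⟩, by rw [T'.card_A]; norm_num, ?_, ?_⟩
  · show ¬ 3 ∣ P'.index
    rw [← hP3]; exact H.sylow
  · show T'.A ≤ P'
    rw [← hP3]; exact T'.A_le_P3
  · refine le_antisymm (fun g hg => T'.self_cent fun a ha => (Subgroup.mem_centralizer_iff.mp hg a ha).symm) ?_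
    exact fun g hg => Subgroup.mem_centralizer_iff.mpr fun a ha => (T'.A_comm ha hg).eq
  · haveI : (T'.A.subgroupOf (Subgroup.normalizer (T'.A : Set G))).Normal := Subgroup.normal_in_normalizer
    exact ⟨inferInstance, H.quotient_iso⟩

end Cfsg.Agent.Spor.SuzThree
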