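import Cfsg.Agent.Lib.Spor.SuzThree.Invol
import Cfsg.Agent.Lib.Spor.U43Corr

/-!
The elementary abelian subgroup of order 81 of PSU(4,3) as the image of diagonal matrices, its normaliser as the
image of the even monomial matrices, and its uniqueness in a Sylow 3-subgroup.
-/

set_option autoImplicit false
set_option maxRecDepth 100000

namespace Cfsg.Agent.Spor.SuzThree

open Cfsg.Agent.Spor.U43
open Cfsg.Agent.Spor.SpFour (F4)
open Cfsg.Agent.Spor.SUSix (G6 V6)

theorem card_map_mul {A B : Type*} [Group A] [Group B] [Finite A] (f : A →* B) (H : Subgroup A) (h : f.ker ≤ H) :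
    Nat.card (H.map f) * Nat.card f.ker = Nat.card H := by
  have h1 := Subgroup.card_eq_card_quotient_mul_card_subgroup (f.comp H.subtype).ker
  rw [Nat.card_congr (QuotientGroup.quotientKerEquivRange (f.comp H.subtype)).toEquiv,
    MonoidHom.range_comp, Subgroup.range_subtype] at h1
  rw [h1]
  congr 1
  rw [← Nat.card_congr (Subgroup.subgroupOfEquivOfLe h).toEquiv]
  rfl

/-- a diagonal element in the reference group -/
noncomputable def kD (e : Fin 243) : K1 := ⟨dE e, DD_le_K1 (dE_mem e)⟩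

/-- its permutation -/
noncomputable def δ (e : Fin 243) : Equiv.Perm (Fin 280) := pi1 (kD e)

/-- an even permutation in the reference group -/
noncomputable def kP (p : Equiv.Perm (Fin 6)) (hp : Equiv.Perm.sign p = 1) : K1 :=
  ⟨U43.pm p, MM_le_K1 (mem_MM.mpr ⟨pm_mem p, by rw [mp_pm]; exact hp⟩)⟩

/-- the image of the diagonal subgroup -/
noncomputable def Dbar : Subgroup (Equiv.Perm (Fin 280)) := (DD.subgroupOf K1).map pi1

/-- the image of the even monomial subgroup -/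
noncomputable def Mbar : Subgroup (Equiv.Perm (Fin 280)) := (MM.subgroupOf K1).map pi1

/-- the image of the Sylow subgroup -/
noncomputable def Pbar : Subgroup (Equiv.Perm (Fin 280)) := (P6.subgroupOf K1).map pi1

theorem mem_Dbar {σ : Equiv.Perm (Fin 280)} : σ ∈ Dbar ↔ ∃ e, δ e = σ := by
  constructor
  · rintro ⟨x, hx, rfl⟩
    obtain ⟨e, he⟩ := exists_dE (Subgroup.mem_subgroupOf.mp hx)
    exact ⟨e, congrArg pi1 (Subtype.ext he : kD e = x)⟩
  · rintro ⟨e, rfl⟩
    exact ⟨kD e, Subgroup.mem_subgroupOf.mpr (dE_mem e), rfl⟩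

theorem ker_le {H : Subgroup G6} (h : Subgroup.center G6 ≤ H) : pi1.ker ≤ H.subgroupOf K1 := by
  rw [ker_pi1]; exact fun x hx => Subgroup.mem_subgroupOf.mpr (h (Subgroup.mem_subgroupOf.mp hx))

theorem card_ker : Nat.card pi1.ker = 3 := by
  rw [ker_pi1, Nat.card_congr (Subgroup.subgroupOfEquivOfLe center_le_K1).toEquiv, SUSix.card_center]

theorem card_img {H : Subgroup G6} (hH : H ≤ K1) (h : Subgroup.center G6 ≤ H) :
    Nat.card ((H.subgroupOf K1).map pi1) * 3 = Nat.card H := by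
  rw [← Nat.card_congr (Subgroup.subgroupOfEquivOfLe hH).toEquiv, ← card_map_mul pi1 _ (ker_le h), card_ker]

theorem card_Dbar : Nat.card Dbar = 81 := by
  have h := card_img DD_le_K1 center_le_DD
  rw [card_DD] at h
  unfold Dbar
  omega

theorem card_Mbar : Nat.card Mbar = 360 * 81 := by
  have h := card_img MM_le_K1 (center_le_DD.trans DD_le_MM)
  rw [card_MM] at h
  unfold Mbar
  omega

theorem card_Pbar : Nat.card Pbar = 729 := by
  have h := card_img (P6_le_MM.trans MM_le_K1) center_le_P6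
  rw [card_P6] at h
  unfold Pbar
  omega

theorem Dbar_le_Pbar : Dbar ≤ Pbar :=
  Subgroup.map_mono fun _ h => Subgroup.mem_subgroupOf.mpr (DD_le_P6 (Subgroup.mem_subgroupOf.mp h))

theorem Pbar_le_Mbar : Pbar ≤ Mbar :=
  Subgroup.map_mono fun _ h => Subgroup.mem_subgroupOf.mpr (P6_le_MM (Subgroup.mem_subgroupOf.mp h))

theorem Mbar_le : Mbar ≤ U280 := Subgroup.map_le_range _ _

theorem Dbar_le : Dbar ≤ U280 := Subgroup.map_le_range _ _

/-- the relation of being equal up to a scalar -/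
def SEq (f g : V6) : Prop := ∃ c : F4, c ≠ 0 ∧ ∀ j, f j = c * g j

theorem δ_eq {a b : Fin 243} : δ a = δ b ↔ SEq (fv a) (fv b) := by
  have key : δ a = δ b ↔ (dE b)⁻¹ * dE a ∈ Subgroup.center G6 := by
    rw [δ, δ, ← inv_mul_eq_one, ← map_inv, ← map_mul, ← MonoidHom.mem_ker, ker_pi1, Subgroup.mem_subgroupOf]
    constructor
    · intro h
      have := inv_mem h
      simpa [kD] using this
    · intro h
      have := inv_mem h
      simpa [kD] using this
  rw [key]
  constructor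
  · intro h
    obtain ⟨c, hc, he⟩ := center_scal h
    refine ⟨c, hc, fun j => ?_⟩
    have e : mat (dE a) = mat (dE b) * SUSix.scal c := by rw [← he, ← mat_mul, mul_inv_cancel_left]
    have e' := congrFun (congrFun e j) j
    rw [show mat (dE a) = Matrix.diagonal (fv a) from rfl, show mat (dE b) = Matrix.diagonal (fv b) from rfl,
      SUSix.scal, Matrix.diagonal_mul_diagonal, Matrix.diagonal_apply_eq, Matrix.diagonal_apply_eq] at e'
    rw [e', mul_comm]
  · rintro ⟨c, -, hj⟩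
    refine mem_center_of_scal (c := c) ?_
    have e : mat (dE a) = mat (dE b) * SUSix.scal c := by
      rw [show mat (dE a) = Matrix.diagonal (fv a) from rfl, show mat (dE b) = Matrix.diagonal (fv b) from rfl,
        SUSix.scal, Matrix.diagonal_mul_diagonal]
      exact congrArg Matrix.diagonal (funext fun j => by rw [hj j, mul_comm])
    rw [mat_mul, e, ← mul_assoc, ← mat_mul, inv_mul_cancel, mat_one, one_mul]

theorem δ_mul {a b c : Fin 243} (h : ∀ j, fv c j = fv a j * fv b j) : δ c = δ a * δ b := by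
  rw [δ, δ, δ, ← map_mul]
  refine congrArg pi1 (Subtype.ext (G6_ext ?_))
  show Matrix.diagonal (fv c) = Matrix.diagonal (fv a) * Matrix.diagonal (fv b)
  rw [Matrix.diagonal_mul_diagonal]
  exact congrArg Matrix.diagonal (funext h)

theorem δ_zero : δ 0 = 1 := by
  rw [δ, show kD 0 = 1 from Subtype.ext dE_zero, map_one]

/-- the rotated vector -/
def rotV (p : Equiv.Perm (Fin 6)) (f : V6) : V6 := fun j => f (p.symm j)

theorem δ_conj {p : Equiv.Perm (Fin 6)} (hp : Equiv.Perm.sign p = 1) {e e' : Fin 243}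
    (h : SEq (fv e') (rotV p (fv e))) : pi1 (kP p hp) * δ e * (pi1 (kP p hp))⁻¹ = δ e' := by
  have hok : okV (rotV p (fv e)) = true := by
    have h0 := (decide_eq_true_iff).mp (fv_ok e).1
    rw [okV, decide_eq_true_iff]
    refine ⟨fun j => h0.1 _, ?_⟩
    have e1 : ∏ j, rotV p (fv e) j = ∏ j, fv e j := Equiv.prod_comp p.symm (fv e)
    rw [Fin.prod_univ_six, Fin.prod_univ_six] at e1
    exact e1.trans h0.2
  have h1 : pi1 (kP p hp) * δ e * (pi1 (kP p hp))⁻¹ = δ (ev (rotV p (fv e))) := by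
    rw [δ, δ, mul_inv_eq_iff_eq_mul, ← map_mul, ← map_mul]
    refine congrArg pi1 (Subtype.ext (G6_ext ?_))
    show mat (U43.pm p) * Matrix.diagonal (fv e) = Matrix.diagonal (fv (ev (rotV p (fv e)))) * mat (U43.pm p)
    rw [fv_ev hok, mat_pm]
    ext i j
    rw [Matrix.mul_diagonal, Matrix.diagonal_mul]
    by_cases hi : i = p j
    · subst hi; simp [pmM, rotV]
    · simp [pmM, hi]
  rw [h1, δ_eq, fv_ev hok]
  obtain ⟨c, hc, hj⟩ := h
  exact ⟨c⁻¹, inv_ne_zero hc, fun j => by rw [hj j, ← mul_assoc, inv_mul_cancel₀ hc, one_mul]⟩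

theorem Dbar_comm {σ τ : Equiv.Perm (Fin 280)} (hσ : σ ∈ Dbar) (hτ : τ ∈ Dbar) : Commute σ τ := by
  obtain ⟨a, rfl⟩ := mem_Dbar.mp hσ
  obtain ⟨b, rfl⟩ := mem_Dbar.mp hτ
  show δ a * δ b = δ b * δ a
  rw [δ, δ, ← map_mul, ← map_mul]
  refine congrArg pi1 (Subtype.ext (G6_ext ?_))
  show Matrix.diagonal (fv a) * Matrix.diagonal (fv b) = Matrix.diagonal (fv b) * Matrix.diagonal (fv a)
  rw [Matrix.diagonal_mul_diagonal, Matrix.diagonal_mul_diagonal]
  exact congrArg Matrix.diagonal (funext fun j => mul_comm _ _)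

/-- an element of the monomial image acts as an even permutation on the diagonal image -/
theorem exists_perm {σ : Equiv.Perm (Fin 280)} (h : σ ∈ Mbar) : ∃ p, ∃ hp : Equiv.Perm.sign p = 1,
    ∃ d ∈ Dbar, σ = pi1 (kP p hp) * d := by
  obtain ⟨x, hx, rfl⟩ := h
  obtain ⟨hN, hs⟩ := mem_MM.mp (Subgroup.mem_subgroupOf.mp hx)
  refine ⟨_, hs, pi1 ((kP _ hs)⁻¹ * x), ⟨_, ?_, rfl⟩, by rw [map_mul, map_inv, mul_inv_cancel_left]⟩
  refine Subgroup.mem_subgroupOf.mpr (mem_lift6.mpr ⟨mul_mem (inv_mem (pm_mem _)) hN, Subgroup.mem_bot.mpr ?_⟩)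
  have e : (⟨(U43.pm (mp ⟨(x : G6), hN⟩))⁻¹ * (x : G6), mul_mem (inv_mem (pm_mem _)) hN⟩ : NN) =
      (⟨U43.pm (mp ⟨(x : G6), hN⟩), pm_mem _⟩ : NN)⁻¹ * ⟨(x : G6), hN⟩ := rfl
  exact (congrArg mp e).trans (by rw [map_mul, map_inv, mp_pm, inv_mul_cancel])

theorem conj_δ {p : Equiv.Perm (Fin 6)} {hp : Equiv.Perm.sign p = 1} {d : Equiv.Perm (Fin 280)} (hd : d ∈ Dbar)
    (e : Fin 243) : (pi1 (kP p hp) * d) * δ e * (pi1 (kP p hp) * d)⁻¹ = pi1 (kP p hp) * δ e * (pi1 (kP p hp))⁻¹ := by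
  have hc : d * δ e = δ e * d := Dbar_comm hd (mem_Dbar.mpr ⟨e, rfl⟩)
  rw [mul_inv_rev, show pi1 (kP p hp) * d * δ e * (d⁻¹ * (pi1 (kP p hp))⁻¹) =
    pi1 (kP p hp) * (d * δ e) * (d⁻¹ * (pi1 (kP p hp))⁻¹) by group, hc]
  group

/-- the normaliser of the diagonal image -/
theorem mem_Mbar_of_normalises {σ : Equiv.Perm (Fin 280)} (hσ : σ ∈ U280)
    (h : ∀ d ∈ Dbar, σ * d * σ⁻¹ ∈ Dbar) : σ ∈ Mbar := by
  obtain ⟨x, rfl⟩ := hσ
  refine ⟨x, Subgroup.mem_subgroupOf.mpr ?_, rfl⟩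
  have hN : (x : G6) ∈ NN := mem_NN_of_normalises fun d hd => by
    obtain ⟨y, hy, e⟩ := h (pi1 ⟨d, DD_le_K1 hd⟩) ⟨⟨d, DD_le_K1 hd⟩, Subgroup.mem_subgroupOf.mpr hd, rfl⟩
    rw [← map_inv, ← map_mul, ← map_mul, eq_comm, ← inv_mul_eq_one, ← map_inv, ← map_mul,
      ← MonoidHom.mem_ker, ker_pi1, Subgroup.mem_subgroupOf] at e
    have h2 := mul_mem (Subgroup.mem_subgroupOf.mp hy) (center_le_DD (inv_mem e))
    push_cast at h2
    simpa [mul_assoc] using h2
  refine mem_MM.mpr ⟨hN, ?_⟩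
  rcases Int.units_eq_one_or (Equiv.Perm.sign (mp ⟨(x : G6), hN⟩)) with e | e
  · exact e
  exfalso
  refine t01_notMem ?_
  have hq : Equiv.Perm.sign (mp ⟨(x : G6), hN⟩ * t01) = 1 := by rw [map_mul, e, t01_odd]; decide
  set q := mp ⟨(x : G6), hN⟩ * t01 with hqdef
  set y : NN := (⟨U43.pm t01, pm_mem _⟩ : NN)⁻¹ * ((⟨U43.pm q, pm_mem _⟩ : NN)⁻¹ * ⟨(x : G6), hN⟩) with hy
  have hyD : (y : G6) ∈ DD := by
    refine mem_lift6.mpr ⟨y.2, Subgroup.mem_bot.mpr ?_⟩
    show mp y = 1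
    rw [hy, map_mul, map_mul, map_inv, map_inv, mp_pm, mp_pm, hqdef, mul_inv_rev, show t01⁻¹ = t01 by decide +kernel,
      mul_assoc, inv_mul_cancel, mul_one, show t01 * t01 = 1 by decide +kernel]
  have he : U43.pm t01 = (U43.pm q)⁻¹ * (x : G6) * (y : G6)⁻¹ := by rw [hy]; push_cast; group
  rw [he]
  exact mul_mem (mul_mem (inv_mem (kP q hq).2) x.2) (inv_mem (DD_le_K1 hyD))

theorem sep_perm {p : Equiv.Perm (Fin 6)} (h : ∀ j k : Fin 6, j ≠ k → SEq (sepV j k) (rotV p (sepV j k))) :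
    p = 1 := by
  refine Equiv.ext fun a => ?_
  by_contra hne
  rw [Equiv.Perm.one_apply] at hne
  obtain ⟨b, hb1, hb2⟩ : ∃ b : Fin 6, b ≠ a ∧ b ≠ p a := by
    have : ∀ a c : Fin 6, ∃ b : Fin 6, b ≠ a ∧ b ≠ c := by decide
    exact this a (p a)
  obtain ⟨c, hc, hj⟩ := h a b hb1.symm
  -- four positions of value one force the scalar to be trivial
  obtain ⟨m, h1, h2⟩ : ∃ m : Fin 6, (m ≠ a ∧ m ≠ b) ∧ p.symm m ≠ a ∧ p.symm m ≠ b := by
    generalize hq1 : p a = u
    generalize hq2 : p b = v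
    have : ∀ a b u v : Fin 6, ∃ m : Fin 6, (m ≠ a ∧ m ≠ b) ∧ m ≠ u ∧ m ≠ v := by decide
    obtain ⟨m, hm, hm1, hm2⟩ := this a b u v
    refine ⟨m, hm, fun e => hm1 ?_, fun e => hm2 ?_⟩
    · rw [← hq1, ← e, Equiv.apply_symm_apply]
    · rw [← hq2, ← e, Equiv.apply_symm_apply]
  have em := hj m
  simp only [rotV, sepV, if_neg h1.1, if_neg h1.2, if_neg h2.1, if_neg h2.2, mul_one] at em
  subst em
  have ea := hj (p a)
  simp only [rotV, Equiv.symm_apply_apply, sepV, if_neg hne, if_neg hb2.symm, one_mul, ↓reduceIte] at ea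
  exact (by decide : (1 : F4) ≠ F4.w) ea

theorem centralizer_Dbar {σ : Equiv.Perm (Fin 280)} (hσ : σ ∈ U280) (h : ∀ d ∈ Dbar, Commute σ d) : σ ∈ Dbar := by
  obtain ⟨p, hp, d, hd, rfl⟩ := exists_perm (mem_Mbar_of_normalises hσ fun d hd => by
    rw [(h d hd).eq, mul_inv_cancel_right]; exact hd)
  have h1 : p = 1 := sep_perm fun j k hjk => by
    have hok := (sep_ok j k hjk).1
    set e := ev (sepV j k) with he
    have hok' : okV (rotV p (fv e)) = true := by
      have h0 := (decide_eq_true_iff).mp (fv_ok e).1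
      rw [okV, decide_eq_true_iff]
      refine ⟨fun j => h0.1 _, ?_⟩
      have e1 : ∏ j, rotV p (fv e) j = ∏ j, fv e j := Equiv.prod_comp p.symm (fv e)
      rw [Fin.prod_univ_six, Fin.prod_univ_six] at e1
      exact e1.trans h0.2
    have h2 := δ_conj hp (e := e) (e' := ev (rotV p (fv e))) ⟨1, one_ne_zero, fun i => by rw [fv_ev hok', one_mul]⟩
    rw [← conj_δ hd, (h _ (mem_Dbar.mpr ⟨e, rfl⟩)).eq, mul_inv_cancel_right, δ_eq, fv_ev hok', he, fv_ev hok] at h2
    exact h2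
  subst h1
  refine mul_mem ?_ hd
  rw [show kP 1 hp = 1 from Subtype.ext U43.pm_one, map_one]
  exact one_mem _

/-- The diagonal image is the only abelian subgroup of its order in the Sylow image. -/
theorem Dbar_unique {H : Subgroup (Equiv.Perm (Fin 280))} (hH : H ≤ Pbar) (hc : Nat.card H = 81)
    (hab : ∀ x ∈ H, ∀ y ∈ H, Commute x y) : H = Dbar := by
  set H' : Subgroup G6 := ((H.comap pi1) ⊓ P6.subgroupOf K1).map K1.subtype with hH'
  have hP : (P6.subgroupOf K1).map pi1 = Pbar := rfl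
  have hmap : ((H.comap pi1) ⊓ P6.subgroupOf K1).map pi1 = H := by
    refine le_antisymm ((Subgroup.map_mono inf_le_left).trans (Subgroup.map_comap_le _ _)) fun y hy => ?_
    obtain ⟨x, hx, rfl⟩ := hH hy
    exact ⟨x, ⟨hy, hx⟩, rfl⟩
  have hk : pi1.ker ≤ (H.comap pi1) ⊓ P6.subgroupOf K1 :=
    le_inf (MonoidHom.ker_le_comap _ _) (ker_le center_le_P6)
  have hcard : Nat.card H' = 243 := by
    rw [hH', Subgroup.card_map_of_injective K1.subtype_injective, ← card_map_mul pi1 _ hk, hmap, hc, card_ker]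
  have hD : H' = DD := by
    refine DD_unique ?_ hcard ?_
    · rintro _ ⟨x, hx, rfl⟩; exact Subgroup.mem_subgroupOf.mp hx.2
    · rintro _ ⟨x, hx, rfl⟩ _ ⟨y, hy, rfl⟩
      refine comm1_of_center ?_
      have e : pi1 ((y * x)⁻¹ * (x * y)) = 1 := by
        rw [map_mul, map_inv, map_mul, map_mul, (hab _ hx.1 _ hy.1).eq, inv_mul_cancel]
      rw [← MonoidHom.mem_ker, ker_pi1, Subgroup.mem_subgroupOf] at e
      exact e
  rw [← hmap, Dbar, ← hD, hH']
  exact congrArg (Subgroup.map pi1) (Subgroup.comap_map_eq_self_of_injective K1.subtype_injective _).symm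

theorem iota_mem : pi1 iotaK ∈ Mbar := by
  refine ⟨iotaK, Subgroup.mem_subgroupOf.mpr ?_, rfl⟩
  rw [iota_val]
  exact mem_MM.mpr ⟨pm_mem _, by rw [mp_pm]; decide +kernel⟩

theorem iota_eq : iotaK = kP pI (by decide +kernel) := Subtype.ext iota_val

end Cfsg.Agent.Spor.SuzThree
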