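import Cfsg.Agent.Lib.Spor.SuzY.Main

/-!
Groups of Suzuki sporadic type: an elementary abelian group of order 27 centralising the element of order three
and the central involution contains exactly six conjugates of that element.
-/

set_option autoImplicit false
set_option maxRecDepth 100000
set_option linter.unusedSectionVars false

namespace Cfsg.Agent.Spor.SuzThree

open Cfsg.Agent.Spor.SuzT Cfsg.Agent.Spor.SuzT.Three

theorem plane0_fixed : ∀ a : Fin 4, InF [0, va, vb, va + vb][a] → a = 0 := by unfold InF; decide +kernel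

theorem sep6 : ∀ a b c a' b' c' : Fin 4, [0, va, vb, va + vb][a'] + [0, v5, v11, v5 + v11][b'] + [0, v10, v7, v10 + v7][c'] =
    [0, va, vb, va + vb][a] + [0, v5, v11, v5 + v11][b] + [0, v10, v7, v10 + v7][c] → a' = a ∧ b' = b ∧ c' = c := by
  decide +kernel

theorem act_plane0 (i j k : ℕ) (a : Fin 4) :
    e3 i j k • [0, va, vb, va + vb][a] = g0 ^ i • [0, va, vb, va + vb][a] := by
  obtain ⟨a1, a2, -, -, -, -⟩ := e3_act i j k
  fin_cases a
  · exact (smul_zero' _).trans (smul_zero' _).symm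
  · exact a1
  · exact a2
  · show e3 i j k • (va + vb) = g0 ^ i • (va + vb)
    rw [Three.smul_add', Three.smul_add', a1, a2]

/-- the fixed vectors of a product of rotations, by planes -/
theorem fixed_parts {i j k : ℕ} {v : V} (h : e3 i j k • v = v) : ∃ a b c : Fin 4,
    v = [0, va, vb, va + vb][a] + [0, v5, v11, v5 + v11][b] + [0, v10, v7, v10 + v7][c] ∧
      (i % 3 ≠ 0 → a = 0) ∧ (j % 3 ≠ 0 → b = 0) ∧ (k % 3 ≠ 0 → c = 0) := by
  obtain ⟨a, b, c, rfl⟩ := span6 v
  obtain ⟨a', ea⟩ := plane_pow rot0 i a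
  obtain ⟨b', eb⟩ := plane_pow rot1 j b
  obtain ⟨c', ec⟩ := plane_pow rot2 k c
  rw [Three.smul_add', Three.smul_add', act_plane0, act_plane1, act_plane2, ea, eb, ec] at h
  obtain ⟨ha', hb', hc'⟩ := sep6 a b c a' b' c' h
  rw [ha'] at ea
  rw [hb'] at eb
  rw [hc'] at ec
  refine ⟨a, b, c, rfl, fun hi => ?_, fun hj => ?_, fun hk => ?_⟩
  · have f := pow_fix ea i
    rw [pow_unit rot0.cube hi] at f
    exact plane0_fixed _ ((fixed_iff _).1 f)
  · have f := pow_fix eb j
    rw [pow_unit rot1.cube hj] at f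
    exact plane_perp.1 _ (fix1_iff f).1 (fix1_iff f).2
  · have f := pow_fix ec k
    rw [pow_unit rot2.cube hk] at f
    exact plane_perp.2.1 _ (fix2_iff f).1 (fix2_iff f).2

theorem fixed_card_g0 : (Finset.univ.filter fun v : V => g0 • v = v).card = 16 := by
  classical
  have : (Finset.univ.filter fun v : V => g0 • v = v) = Finset.univ.filter fun v : V => enc v < 16 := by
    ext v; simp only [Finset.mem_filter, Finset.mem_univ, true_and]; exact fixed_iff v
  rw [this]
  decide +kernel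

/-- a product of rotations conjugate to the first rotation lies on one axis -/
theorem axis {i j k : ℕ} {c : Ga} (h : c * g0 * c⁻¹ = e3 i j k) :
    (i % 3 = 0 ∧ j % 3 = 0) ∨ (i % 3 = 0 ∧ k % 3 = 0) ∨ (j % 3 = 0 ∧ k % 3 = 0) := by
  classical
  have h16 : 16 ≤ (Finset.univ.filter fun v : V => e3 i j k • v = v).card := by
    rw [← fixed_card_g0]
    refine Finset.card_le_card_of_injOn (fun v => c • v) (fun v hv => ?_) (MulAction.injective c).injOn
    simp only [Finset.coe_filter, Finset.mem_univ, true_and, Set.mem_setOf_eq] at hv ⊢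
    rw [← h, mul_smul, mul_smul, inv_smul_smul, hv]
  by_contra hc
  have small : ∀ F : Fin 4 → V, (∀ v : V, e3 i j k • v = v → ∃ x, v = F x) → False := by
    intro F hF
    have hsub : (Finset.univ.filter fun v : V => e3 i j k • v = v) ⊆ Finset.univ.image F := fun v hv => by
      obtain ⟨x, rfl⟩ := hF v (Finset.mem_filter.1 hv).2
      exact Finset.mem_image_of_mem _ (Finset.mem_univ x)
    have := (Finset.card_le_card hsub).trans Finset.card_image_le
    rw [Finset.card_univ, Fintype.card_fin] at this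
    omega
  have z0 : ([0, va, vb, va + vb][(0 : Fin 4)] : V) = 0 ∧ ([0, v5, v11, v5 + v11][(0 : Fin 4)] : V) = 0 ∧
      ([0, v10, v7, v10 + v7][(0 : Fin 4)] : V) = 0 := ⟨rfl, rfl, rfl⟩
  by_cases hi : i % 3 = 0
  · have hj : j % 3 ≠ 0 := fun e => hc (Or.inl ⟨hi, e⟩)
    have hk : k % 3 ≠ 0 := fun e => hc (Or.inr (Or.inl ⟨hi, e⟩))
    refine small (fun a => [0, va, vb, va + vb][a]) fun v hv => ?_
    obtain ⟨a, b, c, e, -, hb, hc⟩ := fixed_parts hv
    exact ⟨a, by rw [e, hb hj, hc hk, z0.2.1, z0.2.2, add_zero, add_zero]⟩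
  · by_cases hj : j % 3 = 0
    · have hk : k % 3 ≠ 0 := fun e => hc (Or.inr (Or.inr ⟨hj, e⟩))
      refine small (fun b => [0, v5, v11, v5 + v11][b]) fun v hv => ?_
      obtain ⟨a, b, c, e, ha, -, hc⟩ := fixed_parts hv
      exact ⟨b, by rw [e, ha hi, hc hk, z0.1, z0.2.2, add_zero, zero_add]⟩
    · refine small (fun c => [0, v10, v7, v10 + v7][c]) fun v hv => ?_
      obtain ⟨a, b, c, e, ha, hb, -⟩ := fixed_parts hv
      exact ⟨c, by rw [e, ha hi, hb hj, z0.1, z0.2.1, zero_add, zero_add]⟩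

universe u

variable {G : Type u} [Group G] [Finite G] {z : G} {Q : Subgroup G} (K : Ctx z Q)

theorem conj_y_inv {a : G} (h : IsConj K.y a) : IsConj K.y a⁻¹ := by
  obtain ⟨d, -, hd⟩ := K.exists_inverter
  obtain ⟨g, rfl⟩ := isConj_iff.1 h
  exact isConj_iff.2 ⟨g * d, by
    rw [show g * d * K.y * (g * d)⁻¹ = g * (d * K.y * d⁻¹) * g⁻¹ by group, hd]; group⟩

/-- a conjugate of the element inside the common centraliser is conjugate to it by an element fixing the involution -/
theorem exists_inner (hinv : ∀ t t' : G, Commute t K.y → Commute t' K.y → t * t = 1 → t' * t' = 1 → t ≠ 1 → t' ≠ 1 →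
      ∃ l : G, Commute l K.y ∧ l * t * l⁻¹ = t')
    {s : G} (hs : Commute s z) (h : IsConj K.y s) : ∃ d : G, Commute d z ∧ d * K.y * d⁻¹ = s := by
  obtain ⟨g, rfl⟩ := isConj_iff.1 h
  have h1 : Commute (g⁻¹ * z * g) K.y := by
    have := (Commute.conj_iff g⁻¹).2 hs.symm
    simpa [mul_assoc] using this
  obtain ⟨l, hly, hl⟩ := hinv z (g⁻¹ * z * g) K.hyz.symm h1 (zz K.h)
    (by rw [show g⁻¹ * z * g * (g⁻¹ * z * g) = g⁻¹ * (z * z) * g by group, zz K.h]; group) (z_ne K.h)
    (fun e => z_ne K.h (by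
      rw [show z = g * (g⁻¹ * z * g) * g⁻¹ by group, e]; group))
  refine ⟨g * l, ?_, ?_⟩
  · have e : g * l * z * (g * l)⁻¹ = z := by
      rw [show g * l * z * (g * l)⁻¹ = g * (l * z * l⁻¹) * g⁻¹ by group, hl]; group
    exact mul_inv_eq_iff_eq_mul.1 e
  · rw [show g * l * K.y * (g * l)⁻¹ = g * (l * K.y * l⁻¹) * g⁻¹ by group, hly.eq, mul_inv_cancel_right]

theorem six (hinv : ∀ t t' : G, Commute t K.y → Commute t' K.y → t * t = 1 → t' * t' = 1 → t ≠ 1 → t' ≠ 1 →
      ∃ l : G, Commute l K.y ∧ l * t * l⁻¹ = t')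
    (S : Subgroup G) (hS : ∀ s ∈ S, Commute s z ∧ Commute s K.y ∧ s ^ 3 = 1) (hc : Nat.card S = 27) (hy : K.y ∈ S) :
    {s : G | s ∈ S ∧ IsConj K.y s}.ncard = 6 := by
  classical
  have hle : S ≤ K.CY := fun s hs => ⟨(hS s hs).1, (hS s hs).2.1⟩
  let φ : S →* Ga := K.PI.comp (Subgroup.inclusion hle)
  have hφ : ∀ s : S, φ s = K.F.π (cC (hS s s.2).1) := fun s => rfl
  have hinj : Function.Injective φ := by
    refine (MonoidHom.ker_eq_bot_iff φ).1 ((Subgroup.eq_bot_iff_forall _).2 fun s hs => Subtype.ext ?_)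
    exact Q_cube K.F K.h ((K.F.π_ker _).1 ((hφ s).symm.trans (MonoidHom.mem_ker.1 hs))) (hS s s.2).2.2
  have hN : ∀ s, φ s ∈ N3 := fun s => by
    refine odd_mem (K.pi_comm (hS s s.2).1 (hS s s.2).2.1) ?_
    exact Odd.of_dvd_nat (n := 3) (by decide)
      ((orderOf_map_dvd φ s).trans (orderOf_dvd_of_pow_eq_one (Subtype.ext (hS s s.2).2.2)))
  have hr : φ.range = N3 := by
    refine Subgroup.eq_of_le_of_card_ge (by rintro _ ⟨s, rfl⟩; exact hN s) ?_
    rw [card_N3, ← hc, Nat.card_congr (MonoidHom.ofInjective hinj).toEquiv]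
  obtain ⟨P1, P2, ht1, ht2, -⟩ := K.exists_planes
  set six' : Finset Ga := {e3 1 0 0, e3 2 0 0, e3 0 1 0, e3 0 2 0, e3 0 0 1, e3 0 0 2} with hsix
  have hcard6 : six'.card = 6 := by
    have hne : ∀ a b : Fin 6, a ≠ b →
        ![e3 1 0 0, e3 2 0 0, e3 0 1 0, e3 0 2 0, e3 0 0 1, e3 0 0 2] a ≠
        ![e3 1 0 0, e3 2 0 0, e3 0 1 0, e3 0 2 0, e3 0 0 1, e3 0 0 2] b := by
      intro a b hab e
      fin_cases a <;> fin_cases b <;> first
        | exact hab rfl
        | (have := e3_inj e; omega)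
    have : six' = Finset.univ.image ![e3 1 0 0, e3 2 0 0, e3 0 1 0, e3 0 2 0, e3 0 0 1, e3 0 0 2] := by
      ext g
      simp [hsix, Fin.exists_fin_succ, eq_comm]
    rw [this, Finset.card_image_of_injective _ (fun a b e => by_contra fun h => hne a b h e)]
    rfl
  have hax : ∀ s : S, IsConj K.y (s : G) ↔ φ s ∈ six' := by
    have hconjT : ∀ (P : Pl K) (s : S), φ s = P.t → IsConj K.y (s : G) := fun P s e => by
      obtain ⟨k, -, hk⟩ := conj_lift K.F K.h P.hTz (hS s s.2).1 P.T3 (hS s s.2).2.2 (P.piT.trans (e.symm.trans (hφ s)))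
      obtain ⟨h, hh⟩ := P.exists_move
      exact isConj_iff.2 ⟨k * h, by rw [← hk, ← hh]; group⟩
    have hy0 : φ ⟨K.y, hy⟩ = g0 := K.piy
    intro s
    constructor
    · intro h
      obtain ⟨d, hd, hds⟩ := exists_inner K hinv (hS s s.2).1 h
      obtain ⟨i, hi, j, hj, k, hk, e⟩ := N3_eq (hN s)
      have he : K.F.π (cC hd) * g0 * (K.F.π (cC hd))⁻¹ = e3 i j k := by
        rw [← K.piy, ← pi_conj K.F hd K.hyz, ← e, hφ s]
        exact pi_congr K.F _ _ hds
      have hne : ¬ (i = 0 ∧ j = 0 ∧ k = 0) := by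
        rintro ⟨rfl, rfl, rfl⟩
        have e1 : φ s = 1 := by rw [e, e3]; simp
        have es : (s : G) = 1 := congrArg Subtype.val (hinj (e1.trans (map_one φ).symm))
        rw [es, isConj_one_left] at h
        exact K.y_ne h
      rw [e]
      rcases axis he with ⟨h1, h2⟩ | ⟨h1, h2⟩ | ⟨h1, h2⟩
      all_goals interval_cases i <;> interval_cases j <;> interval_cases k <;> simp_all
    · intro h
      simp only [hsix, Finset.mem_insert, Finset.mem_singleton] at h
      have sq : ∀ {t : Ga}, t ^ 3 = 1 → t ^ 2 = t⁻¹ := fun {t} ht =>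
        eq_inv_of_mul_eq_one_left (by rw [← pow_succ]; exact ht)
      have viaInv : ∀ t, φ s = t⁻¹ → (∀ s' : S, φ s' = t → IsConj K.y (s' : G)) → IsConj K.y (s : G) := fun t e ht => by
        simpa using conj_y_inv K (ht s⁻¹ (by rw [map_inv, e, inv_inv]))
      have g0case : ∀ s' : S, φ s' = g0 → IsConj K.y (s' : G) := fun s' e => by
        rw [hinj (e.trans hy0.symm)]
      rcases h with e | e | e | e | e | e <;> simp only [e3, pow_zero, pow_one, one_mul, mul_one] at e
      · exact g0case s e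
      · exact viaInv g0 (e.trans (sq rot0.cube)) g0case
      · exact hconjT P1 s (e.trans ht1.symm)
      · exact viaInv t1 (e.trans (sq rot1.cube)) fun s' e' => hconjT P1 s' (e'.trans ht1.symm)
      · exact hconjT P2 s (e.trans ht2.symm)
      · exact viaInv t2 (e.trans (sq rot2.cube)) fun s' e' => hconjT P2 s' (e'.trans ht2.symm)
  have hset : {s : G | s ∈ S ∧ IsConj K.y s} = (fun s : S => (s : G)) '' (φ ⁻¹' (six' : Set Ga)) := by
    ext s
    exact ⟨fun ⟨h1, h2⟩ => ⟨⟨s, h1⟩, (hax ⟨s, h1⟩).1 h2, rfl⟩, fun ⟨s', h', e⟩ => e ▸ ⟨s'.2, (hax s').2 h'⟩⟩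
  rw [hset, Set.ncard_image_of_injective _ Subtype.val_injective, Set.ncard_preimage_of_injective_subset_range hinj,
    Set.ncard_coe_finset, hcard6]
  intro g hg
  have hg' : g ∈ six' := hg
  simp only [hsix, Finset.mem_insert, Finset.mem_singleton] at hg'
  show g ∈ φ.range
  rw [hr]
  rcases hg' with rfl | rfl | rfl | rfl | rfl | rfl <;> exact e3_mem _ _ _

end Cfsg.Agent.Spor.SuzThree
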