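import Cfsg.Agent.Lib.Spor.SuzThree.Weights

/-!
A central extension of PSU(4,3) by a group of order three as the centraliser of an element: the preimage of the
diagonal image is elementary abelian of order 243, self-centralising and unique in a Sylow 3-subgroup.
-/

set_option autoImplicit false
set_option maxRecDepth 100000

namespace Cfsg.Agent.Spor.SuzThree

open Cfsg.Agent.Spor.U43
open Cfsg.Agent.Spor.SpFour (F4)

universe u

/-- an element of order three whose centraliser covers the reference group -/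
structure Cover (G : Type u) [Group G] where
  y : G
  y3 : y ^ 3 = 1
  y1 : y ≠ 1
  f : Subgroup.centralizer ({y} : Set G) →* Equiv.Perm (Fin 280)
  range : f.range = U280
  ker : ∀ g, f g = 1 ↔ (g : G) ∈ Subgroup.zpowers y

namespace Cover

variable {G : Type u} [Group G] [Finite G] (T : Cover G)

/-- the centraliser -/
abbrev L : Subgroup G := Subgroup.centralizer ({T.y} : Set G)

theorem mem_L {g : G} : g ∈ T.L ↔ Commute g T.y := Subgroup.mem_centralizer_singleton_iff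

theorem exists_lift {σ : Equiv.Perm (Fin 280)} (h : σ ∈ U280) : ∃ g : T.L, T.f g = σ := by
  rw [← T.range] at h; exact h

theorem y_L : T.y ∈ T.L := T.mem_L.mpr (Commute.refl _)

theorem f_y : T.f ⟨T.y, T.y_L⟩ = 1 := (T.ker _).mpr (Subgroup.mem_zpowers _)

theorem card_kerf : Nat.card T.f.ker = 3 := by
  have e : T.f.ker = (Subgroup.zpowers T.y).subgroupOf T.L := by
    ext g; rw [MonoidHom.mem_ker, T.ker, Subgroup.mem_subgroupOf]
  rw [e, Nat.card_congr (Subgroup.subgroupOfEquivOfLe (Subgroup.zpowers_le.mpr T.y_L)).toEquiv, Nat.card_zpowers]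
  haveI : Fact (Nat.Prime 3) := ⟨Nat.prime_three⟩
  exact orderOf_eq_prime T.y3 T.y1

/-- the preimage of a subgroup of the reference group -/
noncomputable def pre (H : Subgroup (Equiv.Perm (Fin 280))) : Subgroup G := (H.comap T.f).map T.L.subtype

theorem mem_pre {H : Subgroup (Equiv.Perm (Fin 280))} {g : G} : g ∈ T.pre H ↔ ∃ h : g ∈ T.L, T.f ⟨g, h⟩ ∈ H := by
  constructor
  · rintro ⟨x, hx, rfl⟩; exact ⟨x.2, hx⟩
  · rintro ⟨h, hh⟩; exact ⟨⟨g, h⟩, hh, rfl⟩

theorem pre_le (H : Subgroup (Equiv.Perm (Fin 280))) : T.pre H ≤ T.L := fun _ h => (T.mem_pre.mp h).1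

theorem card_pre {H : Subgroup (Equiv.Perm (Fin 280))} (h : H ≤ U280) : Nat.card (T.pre H) = 3 * Nat.card H := by
  rw [pre, Subgroup.card_map_of_injective T.L.subtype_injective,
    ← card_map_mul T.f _ (MonoidHom.ker_le_comap _ _), T.card_kerf,
    Subgroup.map_comap_eq_self (T.range.symm ▸ h), mul_comm]

theorem card_L : Nat.card T.L = 3 * 3265920 := by
  rw [Subgroup.card_eq_card_quotient_mul_card_subgroup T.f.ker,
    Nat.card_congr (QuotientGroup.quotientKerEquivRange T.f).toEquiv, T.range, T.card_kerf, pi1_range_card.1]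

/-- the elementary abelian subgroup -/
noncomputable def A : Subgroup G := T.pre Dbar

theorem mem_A {g : G} : g ∈ T.A ↔ ∃ h : g ∈ T.L, T.f ⟨g, h⟩ ∈ Dbar := T.mem_pre

theorem A_le : T.A ≤ T.L := T.pre_le _

theorem y_A : T.y ∈ T.A := T.mem_A.mpr ⟨T.y_L, by rw [T.f_y]; exact one_mem _⟩

theorem card_A : Nat.card T.A = 243 := by rw [A, T.card_pre Dbar_le, card_Dbar]

theorem A_of_eq {a b : T.L} (h : T.f a = T.f b) : ∃ k : ℤ, (a : G) = b * T.y ^ k := by
  obtain ⟨k, hk⟩ := Subgroup.mem_zpowers_iff.mp ((T.ker (b⁻¹ * a)).mp (by rw [map_mul, map_inv, h, inv_mul_cancel]))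
  exact ⟨k, by rw [hk]; push_cast; group⟩

/-- an exchanging permutation -/
def pairP (i j : Fin 6) : Equiv.Perm (Fin 6) :=
  let r := ([0, 1, 2, 3, 4] : List (Fin 6)).filter fun k => decide (k ≠ i ∧ k ≠ j)
  Equiv.swap i j * Equiv.swap (r.getD 0 0) (r.getD 1 0)

/-- the fifth position -/
def pos5 (i : Fin 5) : Fin 6 := i.castSucc

/-- the generators of the diagonal vectors -/
def gen5 (i : Fin 5) : Fin 243 := Fin.ofNat 243 (3 ^ i.val)

theorem pair_facts : ∀ i j : Fin 5, i ≠ j → Equiv.Perm.sign (pairP (pos5 i) (pos5 j)) = 1 ∧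
    (∀ k, fv (gen5 j) k = fv (gen5 i) ((pairP (pos5 i) (pos5 j)).symm k)) ∧
    ∀ k, fv (gen5 i) k = fv (gen5 j) ((pairP (pos5 i) (pos5 j)).symm k) := by decide +kernel

theorem neg_facts : ∀ i : Fin 5, Equiv.Perm.sign (pairP (pos5 i) 5) = 1 ∧
    ∀ k, fv (gen5 i) k * fv (gen5 i) k = fv (gen5 i) ((pairP (pos5 i) 5).symm k) := by decide +kernel

/-- a lift of a diagonal vector -/
noncomputable def lift5 (e : Fin 243) : T.L :=
  (T.exists_lift (Dbar_le (mem_Dbar.mpr ⟨e, rfl⟩))).choose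

theorem f_lift5 (e : Fin 243) : T.f (T.lift5 e) = δ e :=
  (T.exists_lift (Dbar_le (mem_Dbar.mpr ⟨e, rfl⟩))).choose_spec

theorem conj_lift5 {p : Equiv.Perm (Fin 6)} (hp : Equiv.Perm.sign p = 1) {e e' : Fin 243}
    (h : SEq (fv e') (rotV p (fv e))) {g : T.L} (hg : T.f g = pi1 (kP p hp)) :
    ∃ k : ℤ, (g : G) * T.lift5 e * (g : G)⁻¹ = T.lift5 e' * T.y ^ k := by
  obtain ⟨k, hk⟩ := T.A_of_eq (a := g * T.lift5 e * g⁻¹) (b := T.lift5 e') (by
    rw [map_mul, map_mul, map_inv, hg, T.f_lift5, T.f_lift5]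
    exact δ_conj hp h)
  exact ⟨k, by simpa using hk⟩

theorem y_comm (g : T.L) : Commute (g : G) T.y := T.mem_L.mp g.2

theorem gens_comm (i j : Fin 5) : Commute (T.lift5 (gen5 i) : G) (T.lift5 (gen5 j)) := by
  rcases eq_or_ne i j with rfl | hij
  · exact Commute.refl _
  obtain ⟨hs, h1, h2⟩ := pair_facts i j hij
  obtain ⟨g, hg⟩ := T.exists_lift (σ := pi1 (kP _ hs)) ⟨_, rfl⟩
  obtain ⟨k, hk⟩ := T.conj_lift5 hs (e := gen5 i) (e' := gen5 j) ⟨1, one_ne_zero, fun m => by rw [one_mul]; exact h1 m⟩ hg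
  obtain ⟨l, hl⟩ := T.conj_lift5 hs (e := gen5 j) (e' := gen5 i) ⟨1, one_ne_zero, fun m => by rw [one_mul]; exact h2 m⟩ hg
  obtain ⟨n, hn⟩ := T.A_of_eq (a := T.lift5 (gen5 i) * T.lift5 (gen5 j)) (b := T.lift5 (gen5 j) * T.lift5 (gen5 i)) (by
    rw [map_mul, map_mul, T.f_lift5, T.f_lift5]
    exact Dbar_comm (mem_Dbar.mpr ⟨_, rfl⟩) (mem_Dbar.mpr ⟨_, rfl⟩))
  push_cast at hn
  set a : G := ((T.lift5 (gen5 i) : T.L) : G) with ha
  set b : G := ((T.lift5 (gen5 j) : T.L) : G) with hb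
  have ca : ∀ m : ℤ, Commute a (T.y ^ m) := fun m => (T.y_comm _).zpow_right m
  have cb : ∀ m : ℤ, Commute b (T.y ^ m) := fun m => (T.y_comm _).zpow_right m
  have cg : Commute (g : G) (T.y ^ n) := (T.y_comm g).zpow_right n
  -- conjugating the commutation relation by the exchanging element reverses it
  have h3 : b * a = a * b * T.y ^ n := by
    have e := congrArg (fun x => (g : G) * x * (g : G)⁻¹) hn
    replace e : (g : G) * (a * b) * (g : G)⁻¹ = (g : G) * (b * a * T.y ^ n) * (g : G)⁻¹ := e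
    have e1 : (g : G) * (a * b) * (g : G)⁻¹ = b * a * (T.y ^ k * T.y ^ l) := by
      rw [show (g : G) * (a * b) * (g : G)⁻¹ = ((g : G) * a * (g : G)⁻¹) * ((g : G) * b * (g : G)⁻¹) by group, hk, hl,
        show b * T.y ^ k * (a * T.y ^ l) = b * (T.y ^ k * a) * T.y ^ l by group, ← (ca k).eq]
      group
    have e2 : (g : G) * (b * a * T.y ^ n) * (g : G)⁻¹ = a * b * T.y ^ n * (T.y ^ k * T.y ^ l) := by
      rw [show (g : G) * (b * a * T.y ^ n) * (g : G)⁻¹ =
        ((g : G) * b * (g : G)⁻¹) * ((g : G) * a * (g : G)⁻¹) * ((g : G) * T.y ^ n * (g : G)⁻¹) by group, hk, hl,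
        cg.eq, mul_inv_cancel_right, show a * T.y ^ l * (b * T.y ^ k) = a * (T.y ^ l * b) * T.y ^ k by group,
        ← (cb l).eq, ← zpow_add]
      group
    rw [e1, e2] at e
    exact mul_right_cancel e
  have h4 : T.y ^ n * T.y ^ n = 1 := by
    have : a * b = a * b * (T.y ^ n * T.y ^ n) := by
      conv_lhs => rw [hn, h3]
      group
    exact (mul_eq_left.mp this.symm)
  have h5 : (T.y ^ n) ^ 3 = 1 := by rw [← zpow_natCast, ← zpow_mul, mul_comm, zpow_mul, zpow_natCast, T.y3, one_zpow]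
  rw [pow_succ, sq, h4, one_mul] at h5
  show a * b = b * a
  rw [hn, h5, mul_one]

theorem gens_cube (i : Fin 5) : (T.lift5 (gen5 i) : G) ^ 3 = 1 := by
  obtain ⟨hs, h1⟩ := neg_facts i
  obtain ⟨g, hg⟩ := T.exists_lift (σ := pi1 (kP _ hs)) ⟨_, rfl⟩
  obtain ⟨k, hk⟩ := T.A_of_eq (a := g * T.lift5 (gen5 i) * g⁻¹) (b := T.lift5 (gen5 i) * T.lift5 (gen5 i)) (by
    rw [map_mul, map_mul, map_inv, map_mul, hg, T.f_lift5]
    have hok : okV (rotV (pairP (pos5 i) 5) (fv (gen5 i))) = true := by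
      have : ∀ i : Fin 5, okV (rotV (pairP (pos5 i) 5) (fv (gen5 i))) = true := by decide +kernel
      exact this i
    rw [δ_conj hs (e' := ev (rotV (pairP (pos5 i) 5) (fv (gen5 i))))
      ⟨1, one_ne_zero, fun m => by rw [fv_ev hok, one_mul]⟩]
    exact δ_mul fun m => by rw [fv_ev hok]; exact (h1 m).symm)
  obtain ⟨n, hn⟩ := T.A_of_eq (a := T.lift5 (gen5 i) * T.lift5 (gen5 i) * T.lift5 (gen5 i)) (b := 1) (by
    rw [map_mul, map_mul, map_one, T.f_lift5, ← δ_zero]
    have : ∀ i : Fin 5, okV (fun m => fv (gen5 i) m * fv (gen5 i) m) = true ∧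
        ∀ m, fv 0 m = fv (gen5 i) m * fv (gen5 i) m * fv (gen5 i) m := by decide +kernel
    rw [← δ_mul (a := gen5 i) (b := gen5 i) (c := ev fun m => fv (gen5 i) m * fv (gen5 i) m)
      (fun m => by rw [fv_ev (this i).1])]
    exact (δ_mul fun m => by rw [fv_ev (this i).1]; exact (this i).2 m).symm)
  push_cast at hk hn
  rw [one_mul] at hn
  set a : G := ((T.lift5 (gen5 i) : T.L) : G) with ha
  have ca : ∀ m : ℤ, Commute a (T.y ^ m) := fun m => (T.y_comm _).zpow_right m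
  have cy : ((T.y ^ k) ^ 3) = 1 := by rw [← zpow_natCast, ← zpow_mul, mul_comm, zpow_mul, zpow_natCast, T.y3, one_zpow]
  have ea : a ^ 3 = T.y ^ n := by rw [← hn, pow_succ, sq]
  have e : (g : G) * a ^ 3 * (g : G)⁻¹ = a ^ 3 * a ^ 3 := by
    rw [← conj_pow, hk, (((ca k).mul_left (ca k))).mul_pow, cy, mul_one, (Commute.refl a).mul_pow]
  rw [ea, ((T.y_comm g).zpow_right n).eq, mul_inv_cancel_right] at e
  rw [ea]
  exact mul_eq_left.mp e.symm

/-- the generators -/
def gens : Set G := insert T.y (Set.range fun i => (T.lift5 (gen5 i) : G))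

theorem lift5_mem (e : Fin 243) : (T.lift5 e : G) ∈ Subgroup.closure T.gens := by
  suffices key : ∀ n : ℕ, ∀ e : Fin 243, e.val = n → ∀ g : T.L, T.f g = δ e → (g : G) ∈ Subgroup.closure T.gens from
    key _ e rfl _ (T.f_lift5 e)
  intro n
  induction n using Nat.strong_induction_on with
  | _ n ih =>
    intro e he g hg
    have hy : T.y ∈ Subgroup.closure T.gens := Subgroup.subset_closure (Set.mem_insert _ _)
    rcases step_e e with rfl | ⟨i, hle, hv⟩
    · obtain ⟨k, hk⟩ := T.A_of_eq (a := g) (b := 1) (by rw [hg, δ_zero, map_one])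
      rw [hk]
      exact mul_mem (one_mem _) (zpow_mem hy k)
    · set e' : Fin 243 := Fin.ofNat 243 (e.val - 3 ^ i.val)
      have hval : e'.val = e.val - 3 ^ i.val := Nat.mod_eq_of_lt (Nat.lt_of_le_of_lt (Nat.sub_le _ _) e.2)
      have hlt : e'.val < n := by
        have := pow_pos (show 0 < 3 by norm_num) i.val
        omega
      have h1 := ih _ hlt e' rfl _ (T.f_lift5 e')
      have hprod : δ e = δ e' * δ (gen5 i) := δ_mul fun j => congrFun hv j
      obtain ⟨k, hk⟩ := T.A_of_eq (a := g) (b := T.lift5 e' * T.lift5 (gen5 i)) (by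
        rw [hg, map_mul, T.f_lift5, T.f_lift5, hprod])
      rw [hk]
      exact mul_mem (mul_mem h1 (Subgroup.subset_closure (Set.mem_insert_of_mem _ ⟨i, rfl⟩))) (zpow_mem hy k)

theorem A_le_closure : T.A ≤ Subgroup.closure T.gens := by
  intro a ha
  obtain ⟨hL, hD⟩ := T.mem_A.mp ha
  obtain ⟨e, he⟩ := mem_Dbar.mp hD
  obtain ⟨k, hk⟩ := T.A_of_eq (a := ⟨a, hL⟩) (b := T.lift5 e) (by rw [← he, T.f_lift5])
  rw [show a = (T.lift5 e : G) * T.y ^ k from hk]
  exact mul_mem (T.lift5_mem e) (zpow_mem (Subgroup.subset_closure (Set.mem_insert _ _)) k)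

theorem closure_comm {a b : G} (ha : a ∈ Subgroup.closure T.gens) (hb : b ∈ Subgroup.closure T.gens) :
    Commute a b := by
  have hS : ∀ s ∈ T.gens, ∀ t ∈ T.gens, Commute s t := by
    rintro s (rfl | ⟨i, rfl⟩) t (rfl | ⟨j, rfl⟩)
    · exact Commute.refl _
    · exact (T.y_comm _).symm
    · exact T.y_comm _
    · exact T.gens_comm i j
  have h1 : Subgroup.closure T.gens ≤ Subgroup.centralizer T.gens :=
    (Subgroup.closure_le _).mpr fun s hs => Subgroup.mem_centralizer_iff.mpr fun t ht => (hS t ht s hs).eq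
  have h2 : Subgroup.closure T.gens ≤ Subgroup.centralizer (Subgroup.closure T.gens : Set G) :=
    (Subgroup.closure_le _).mpr fun s hs => Subgroup.mem_centralizer_iff.mpr fun t ht =>
      ((Subgroup.mem_centralizer_iff.mp (h1 ht)) s hs).symm
  exact ((Subgroup.mem_centralizer_iff.mp (h2 ha)) b hb).symm

theorem A_comm {a b : G} (ha : a ∈ T.A) (hb : b ∈ T.A) : Commute a b :=
  T.closure_comm (T.A_le_closure ha) (T.A_le_closure hb)

theorem A_cube {a : G} (ha : a ∈ T.A) : a ^ 3 = 1 := by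
  have key : ∀ x ∈ Subgroup.closure T.gens, x ^ 3 = 1 := by
    intro x hx
    induction hx using Subgroup.closure_induction with
    | mem x hx =>
      rcases hx with rfl | ⟨i, rfl⟩
      · exact T.y3
      · exact T.gens_cube i
    | one => exact one_pow 3
    | mul a b ha hb iha ihb => rw [(T.closure_comm ha hb).mul_pow, iha, ihb, one_mul]
    | inv a ha iha => rw [inv_pow, iha, inv_one]
  exact key a (T.A_le_closure ha)

theorem conj_f (g : T.L) {a : G} (ha : a ∈ T.L) :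
    T.f ⟨(g : G) * a * (g : G)⁻¹, mul_mem (mul_mem g.2 ha) (inv_mem g.2)⟩ = T.f g * T.f ⟨a, ha⟩ * (T.f g)⁻¹ := by
  rw [← map_inv, ← map_mul, ← map_mul]; rfl

theorem self_cent {g : G} (h : ∀ a ∈ T.A, Commute g a) : g ∈ T.A := by
  have hL : g ∈ T.L := T.mem_L.mpr (h _ T.y_A)
  refine T.mem_A.mpr ⟨hL, centralizer_Dbar (T.range ▸ ⟨⟨g, hL⟩, rfl⟩) fun d hd => ?_⟩
  obtain ⟨x, rfl⟩ := T.exists_lift (Dbar_le hd)
  have e : (⟨g, hL⟩ : T.L) * x = x * ⟨g, hL⟩ := Subtype.ext (h _ (T.mem_A.mpr ⟨x.2, hd⟩)).eq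
  show T.f ⟨g, hL⟩ * T.f x = T.f x * T.f ⟨g, hL⟩
  rw [← map_mul, ← map_mul, e]

theorem normalises_iff {g : G} (hg : g ∈ T.L) :
    (∀ a ∈ T.A, g * a * g⁻¹ ∈ T.A) ↔ T.f ⟨g, hg⟩ ∈ Mbar := by
  constructor
  · intro h
    refine mem_Mbar_of_normalises (T.range ▸ ⟨⟨g, hg⟩, rfl⟩) fun d hd => ?_
    obtain ⟨x, rfl⟩ := T.exists_lift (Dbar_le hd)
    obtain ⟨h', hD⟩ := T.mem_A.mp (h _ (T.mem_A.mpr ⟨x.2, hd⟩))
    rwa [show T.f ⟨g, hg⟩ * T.f x * (T.f ⟨g, hg⟩)⁻¹ = T.f ⟨g * x * g⁻¹, h'⟩ from (T.conj_f ⟨g, hg⟩ x.2).symm]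
  · intro h a ha
    obtain ⟨haL, hD⟩ := T.mem_A.mp ha
    refine T.mem_A.mpr ⟨mul_mem (mul_mem hg haL) (inv_mem hg), ?_⟩
    rw [T.conj_f ⟨g, hg⟩ haL]
    obtain ⟨p, hp, d, hd, e⟩ := exists_perm h
    obtain ⟨n, hn⟩ := mem_Dbar.mp hD
    rw [e, ← hn, conj_δ hd]
    have hok : okV (rotV p (fv n)) = true := by
      have h0 := (decide_eq_true_iff).mp (fv_ok n).1
      rw [okV, decide_eq_true_iff]
      refine ⟨fun j => h0.1 _, ?_⟩
      have e1 : ∏ j, rotV p (fv n) j = ∏ j, fv n j := Equiv.prod_comp p.symm (fv n)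
      rw [Fin.prod_univ_six, Fin.prod_univ_six] at e1
      exact e1.trans h0.2
    rw [δ_conj hp (e' := ev (rotV p (fv n))) ⟨1, one_ne_zero, fun m => by rw [fv_ev hok, one_mul]⟩]
    exact mem_Dbar.mpr ⟨_, rfl⟩

/-- the preimage of the Sylow image -/
noncomputable def P3 : Subgroup G := T.pre Pbar

theorem card_P3 : Nat.card T.P3 = 2187 := by rw [P3, T.card_pre (Pbar_le_Mbar.trans Mbar_le), card_Pbar]

theorem A_le_P3 : T.A ≤ T.P3 := Subgroup.map_mono (Subgroup.comap_mono Dbar_le_Pbar)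

theorem A_unique {B : Subgroup G} (hB : B ≤ T.P3) (hc : Nat.card B = 243) (hab : ∀ a ∈ B, ∀ b ∈ B, Commute a b) :
    B = T.A := by
  haveI : Fact (Nat.Prime 3) := ⟨Nat.prime_three⟩
  -- an abelian group of order 243 containing the element has image the diagonal image
  have key : ∀ S : Subgroup G, S ≤ T.P3 → Nat.card S = 243 → T.y ∈ S → (∀ a ∈ S, ∀ b ∈ S, Commute a b) → S = T.A := by
    intro S hS hcS hy habS
    have hSL : S ≤ T.L := hS.trans (T.pre_le _)
    set H := (S.subgroupOf T.L).map T.f with hH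
    have hk : T.f.ker ≤ S.subgroupOf T.L := fun x hx =>
      Subgroup.mem_subgroupOf.mpr (Subgroup.zpowers_le.mpr hy ((T.ker x).mp hx))
    have hcH : Nat.card H * 3 = 243 := by
      rw [← T.card_kerf, hH, card_map_mul T.f _ hk, Nat.card_congr (Subgroup.subgroupOfEquivOfLe hSL).toEquiv, hcS]
    have hHD : H = Dbar := by
      refine Dbar_unique ?_ (by omega) ?_
      · rintro _ ⟨x, hx, rfl⟩
        obtain ⟨h', hh⟩ := T.mem_pre.mp (hS (Subgroup.mem_subgroupOf.mp hx))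
        exact hh
      · rintro _ ⟨x, hx, rfl⟩ _ ⟨z, hz, rfl⟩
        exact (show Commute x z from Subtype.ext
          (habS _ (Subgroup.mem_subgroupOf.mp hx) _ (Subgroup.mem_subgroupOf.mp hz)).eq).map T.f
    refine Subgroup.eq_of_le_of_card_ge (fun a ha => T.mem_A.mpr ⟨hSL ha, ?_⟩) (by rw [hcS, T.card_A])
    rw [← hHD]
    exact ⟨⟨a, hSL ha⟩, Subgroup.mem_subgroupOf.mpr ha, rfl⟩
  by_cases hy : T.y ∈ B
  · exact key B hB hc hy hab
  exfalso
  set S0 := Subgroup.closure ((B : Set G) ∪ {T.y}) with hS0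
  have hcomm : ∀ a ∈ S0, ∀ b ∈ S0, Commute a b := by
    have hS : ∀ s ∈ (B : Set G) ∪ {T.y}, ∀ t ∈ (B : Set G) ∪ {T.y}, Commute s t := by
      rintro s (hs | rfl) t (ht | rfl)
      · exact hab _ hs _ ht
      · exact T.mem_L.mp (T.pre_le _ (hB hs))
      · exact (T.mem_L.mp (T.pre_le _ (hB ht))).symm
      · exact Commute.refl _
    have h1 : S0 ≤ Subgroup.centralizer ((B : Set G) ∪ {T.y}) :=
      (Subgroup.closure_le _).mpr fun s hs => Subgroup.mem_centralizer_iff.mpr fun t ht => (hS t ht s hs).eq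
    have h2 : S0 ≤ Subgroup.centralizer (S0 : Set G) :=
      (Subgroup.closure_le _).mpr fun s hs => Subgroup.mem_centralizer_iff.mpr fun t ht =>
        ((Subgroup.mem_centralizer_iff.mp (h1 ht)) s hs).symm
    exact fun a ha b hb => ((Subgroup.mem_centralizer_iff.mp (h2 ha)) b hb).symm
  have hle : B ≤ S0 := fun b hb => Subgroup.subset_closure (Or.inl hb)
  have hy0 : T.y ∈ S0 := Subgroup.subset_closure (Or.inr rfl)
  have hS0P : S0 ≤ T.P3 := (Subgroup.closure_le _).mpr (by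
    rintro s (hs | rfl)
    exacts [hB hs, T.A_le_P3 T.y_A])
  have hp : IsPGroup 3 S0 := IsPGroup.of_injective (IsPGroup.of_card (n := 7) (by rw [T.card_P3]; norm_num) :
    IsPGroup 3 T.P3) (Subgroup.inclusion hS0P) (Subgroup.inclusion_injective hS0P)
  obtain ⟨n, hn⟩ := IsPGroup.iff_card.mp hp
  have hlt : 243 < Nat.card S0 := by
    rcases Nat.lt_or_ge 243 (Nat.card S0) with h | h
    · exact h
    · exact absurd (Subgroup.eq_of_le_of_card_ge hle (by rw [hc]; exact h) ▸ hy0) hy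
  have hn6 : 6 ≤ n := by
    by_contra h
    have : 3 ^ n ≤ 3 ^ 5 := Nat.pow_le_pow_right (by norm_num) (by omega)
    rw [← hn] at this
    omega
  -- a subgroup of order 243 through the element inside the larger abelian group
  have hz : IsPGroup 3 (Subgroup.zpowers (⟨T.y, hy0⟩ : S0)) := hp.to_subgroup _
  obtain ⟨S', hS', hz'⟩ := Sylow.exists_subgroup_card_pow_prime_le (G := S0) 3 (n := 1) (m := 5)
    (by rw [hn]; exact pow_dvd_pow 3 (by omega)) (Subgroup.zpowers ⟨T.y, hy0⟩) (by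
      rw [Nat.card_zpowers, Subgroup.orderOf_mk, pow_one]; exact orderOf_eq_prime T.y3 T.y1) (by omega)
  have hS'A : S'.map S0.subtype = T.A := by
    refine key _ ((Subgroup.map_subtype_le S').trans hS0P) ?_ ⟨⟨T.y, hy0⟩, hz' (Subgroup.mem_zpowers _), rfl⟩
      fun a ha b hb => hcomm a (Subgroup.map_subtype_le S' ha) b (Subgroup.map_subtype_le S' hb)
    rw [Subgroup.card_map_of_injective S0.subtype_injective, hS']; norm_num
  have hA0 : T.A ≤ S0 := hS'A ▸ Subgroup.map_subtype_le S'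
  have : S0 ≤ T.A := fun s hs => T.self_cent fun a ha => hcomm s hs a (hA0 ha)
  have := Subgroup.card_le_of_le this
  rw [T.card_A] at this
  omega

theorem conj_A {B : Subgroup G} (hB : B ≤ T.L) (hc : Nat.card B = 243) (hab : ∀ a ∈ B, ∀ b ∈ B, Commute a b) :
    ∃ c ∈ T.L, B.map (MulAut.conj c).toMonoidHom = T.A := by
  haveI : Fact (Nat.Prime 3) := ⟨Nat.prime_three⟩
  have hfac : (Nat.card T.L).factorization 3 = 7 := by
    rw [T.card_L, show 3 * 3265920 = 3 ^ 7 * 4480 by norm_num]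
    exact fact_three 7 4480 (by norm_num)
  obtain ⟨S, hS⟩ := (IsPGroup.of_card (p := 3) (n := 5) (by
    rw [Nat.card_congr (Subgroup.subgroupOfEquivOfLe hB).toEquiv, hc]; norm_num) :
    IsPGroup 3 (B.subgroupOf T.L)).exists_le_sylow
  have hSc : Nat.card ((S : Subgroup T.L).map T.L.subtype) = 3 ^ 7 := by
    rw [Subgroup.card_map_of_injective T.L.subtype_injective, S.card_eq_multiplicity, hfac]
  obtain ⟨c, hcL, hcP⟩ := U43.exists_conj_of_card (p := 3) (n := 7) (K := T.L) (P := (S : Subgroup T.L).map T.L.subtype)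
    (Q := T.P3) hfac (Subgroup.map_subtype_le _) (T.pre_le _) hSc (by rw [T.card_P3]; norm_num)
  refine ⟨c, hcL, T.A_unique ?_ ?_ ?_⟩
  · rw [← hcP]
    refine Subgroup.map_mono fun b hb => ?_
    exact ⟨⟨b, hB hb⟩, hS (Subgroup.mem_subgroupOf.mpr hb), rfl⟩
  · rw [Subgroup.card_map_of_injective (show Function.Injective (MulAut.conj c).toMonoidHom from
      (MulAut.conj c).injective), hc]
  · rintro _ ⟨a, ha, rfl⟩ _ ⟨b, hb, rfl⟩
    exact (hab a ha b hb).map _

end Cover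

end Cfsg.Agent.Spor.SuzThree
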