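import Mathlib

/-!
Witnesses for the transitivity of the alternating group of degree six on the diagonal vectors of each kind.
-/

set_option autoImplicit false
set_option maxRecDepth 100000

namespace Cfsg.Agent.Spor.SuzThree

/-- the first vector of each kind -/
def kindRep : List ℕ := [0, 4, 14, 1]

/-- for each vector a scalar and a word of permutations -/
def kindWit : List (ℕ × List ℕ) :=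
  [(0, []), (0, []), (0, [2, 1, 1, 0, 0, 0]), (0, [0]), (0, []), (0, [2, 1, 1]), (0, [1, 0, 0, 0, 0]), (0, [1]), (2, [3, 0, 0]), (0, [0, 0]), (0, [2, 0]), (0, [2, 0, 1]), (0, [0]), (0, [1]), (0, []), (0, [1, 0]), (0, [2]), (2, [0, 0]), (0, [1, 1, 0, 0, 0]), (0, [1, 1]), (2, [1, 0, 0]), (0, [0, 1]), (0, [2, 2]), (2, [2, 2, 0, 0]), (2, [1, 1, 1]), (2, [2, 0, 0]), (2, [0, 0, 0]), (0, [0, 0, 0]), (0, [2, 0, 0]), (0, [2, 0, 1, 0]), (0, [0, 2, 0]), (0, [3]), (2, [3, 0]), (0, [1, 0, 0]), (1, [1, 1, 0, 0]), (2, [0, 0, 2]), (0, [0, 0]), (0, [1, 1]), (2, [0, 2, 1]), (0, [1, 0]), (1, [1, 3, 0, 0, 0]), (1, [1, 3]), (0, [0]), (1, [0, 3]), (0, [1]), (0, [0, 1, 0]), (0, [2, 0]), (2, [0, 2, 0]), (0, [0, 2]), (1, [0, 3, 0]), (2, [1, 0, 0]), (1, [3, 3]), (0, [2, 1]), (2, [3, 0, 0, 0]), (0, [3, 0,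 0, 0, 0]), (0, [3]), (2, [0, 3]), (0, [3, 0]), (2, [3, 1]), (1, [0, 3, 0]), (2, [1, 3]), (1, [0, 3, 2]), (2, [1, 1, 0, 0]), (0, [3, 0, 0]), (1, [3, 1, 0, 0]), (1, [2, 1, 3]), (2, [3, 2, 1]), (1, [0, 3, 0, 0]), (0, [3]), (1, [2, 0, 3, 0]), (0, [3, 2]), (2, [0, 1, 0, 0]), (2, [3, 3]), (1, [0, 3]), (2, [1, 0, 0, 0]), (1, [1, 3]), (0, [3, 2, 2]), (2, [1, 0, 0, 0]), (2, [0, 0, 0, 0]), (2, [2, 0, 1, 0, 0]), (2, [0, 0, 0, 0]), (0, [0, 0, 0, 0]), (0, [0, 0, 0, 0]), (0, [2, 0, 1, 0, 0]), (0, [1, 0, 0, 0]), (0, [3, 3]), (2, [0, 3]), (0, [1, 0, 0, 0]), (2, [1, 3]), (1, [3, 2, 2]), (0, [1, 1, 0, 0]), (0, [1, 3]), (2, [0, 3, 2]), (0, [0, 3]), (1, [3, 0, 0, 0, 0]), (1, [3]), (2, [0, 3, 0]), (1, [3, 0]), (0, [3, 1]), (0, [0, 1, 0, 0]), (2, [2, 0, 3, 0]), (1, [3, 2]), (2, [2, 1, 3]), (1, [3, 0,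 0]), (2, [3, 1, 0, 0]), (1, [3]), (0, [3, 2, 1]), (2, [0, 3, 0, 0]), (0, [0, 0, 0]), (0, [1, 1, 1]), (0, [2, 0, 0]), (0, [1, 0, 0]), (1, [1, 1, 0, 0, 0]), (1, [1, 1]), (0, [2, 2, 0, 0]), (1, [0, 1]), (1, [2, 2]), (0, [3, 0, 0]), (1, [1, 0, 0, 0, 0]), (1, [1]), (1, [2, 1, 1, 0, 0, 0]), (1, []), (1, []), (1, [2, 1, 1]), (1, [0]), (1, []), (0, [0, 0]), (1, [1, 0]), (1, [2]), (1, [2, 0, 1]), (1, [0, 0]), (1, [2, 0]), (1, []), (1, [0]), (1, [1]), (0, [3, 0, 0, 0]), (2, [3, 3]), (1, [2, 1]), (0, [0, 2, 0]), (1, [0, 1, 0]), (1, [2, 0]), (0, [1, 0, 0]), (1, [0, 2]), (2, [0, 3, 0]), (0, [0, 0, 2]), (1, [1, 0, 0]), (2, [1, 1, 0, 0]), (1, [2, 0, 1, 0]), (1, [0, 0, 0]), (1, [2, 0, 0]), (0, [3, 0]), (1, [0, 2, 0]), (1, [3]), (1, [1]), (1, [0]), (2, [0, 3]), (0, [0, 2, 1]), (1, [0, 0]), (1,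 [1, 1]), (2, [1, 3]), (1, [1, 0]), (2, [1, 3, 0, 0, 0]), (0, [1, 3, 0, 0, 0]), (0, [1, 3]), (2, [1, 0]), (0, [0, 3]), (2, [1]), (2, [0]), (2, [1, 1]), (1, [0, 2, 1]), (2, [0, 0]), (0, [0, 3, 0]), (1, [1, 0, 0]), (2, [0, 2]), (2, [2, 1]), (1, [3, 0, 0, 0]), (0, [3, 3]), (2, [2, 0]), (1, [0, 2, 0]), (2, [0, 1, 0]), (2, [3]), (1, [3, 0]), (2, [0, 2, 0]), (0, [1, 1, 0, 0]), (1, [0, 0, 2]), (2, [1, 0, 0]), (2, [2, 0, 0]), (2, [2, 0, 1, 0]), (2, [0, 0, 0]), (0, [0, 3, 0, 0]), (2, [3]), (1, [3, 2, 1]), (2, [3, 2]), (1, [0, 1, 0, 0]), (0, [2, 0, 3, 0]), (0, [3, 1, 0, 0]), (0, [2, 1, 3]), (2, [3, 0, 0]), (2, [3, 2, 2]), (1, [1, 0, 0, 0]), (0, [1, 3]), (1, [2, 0, 1, 0, 0]), (1, [0, 0, 0, 0]), (1, [0, 0, 0, 0]), (0, [0, 3]), (1, [1, 0, 0, 0]), (1, [3, 3]), (1, [3, 1]), (0, [0, 3, 0]), (2,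 [3, 0]), (0, [0, 3, 2]), (1, [1, 1, 0, 0]), (1, [1, 3]), (2, [3]), (1, [0, 3]), (2, [3, 0, 0, 0, 0]), (2, [1]), (2, []), (2, [0]), (2, [2]), (1, [0, 0]), (2, [1, 0]), (2, [2, 0]), (2, [2, 0, 1]), (2, [0, 0]), (2, [2, 2]), (1, [2, 2, 0, 0]), (2, [0, 1]), (1, [2, 0, 0]), (1, [0, 0, 0]), (1, [1, 1, 1]), (2, [1, 1]), (1, [1, 0, 0]), (2, [1, 1, 0, 0, 0]), (2, []), (2, [2, 1, 1]), (2, [0]), (2, [1]), (1, [3, 0, 0]), (2, [1, 0, 0, 0, 0]), (2, []), (2, [2, 1, 1, 0, 0, 0]), (2, [])]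

end Cfsg.Agent.Spor.SuzThree
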