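import Cfsg.Agent.Lib.Spor.SuzThree.WeightData
import Cfsg.Agent.Lib.Spor.SuzThree.Model

/-!
Counting functions on the diagonal vectors invariant under the alternating group of degree six.
-/

set_option autoImplicit false
set_option maxRecDepth 100000

namespace Cfsg.Agent.Spor.SuzThree

open Cfsg.Agent.Spor.U43
open Cfsg.Agent.Spor.SpFour (F4)
open Cfsg.Agent.Spor.SUSix (V6)

/-- number of entries with a value -/
def cnt (e : Fin 243) (c : F4) : ℕ := (Finset.univ.filter fun j => fv e j = c).card

/-- the kind of a vector: constant, three and three, two and two and two, four and one and one -/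
def kind (e : Fin 243) : ℕ :=
  if cnt e F4.i = 6 ∨ cnt e F4.w = 6 ∨ cnt e F4.v = 6 then 0
  else if cnt e F4.i = 3 ∨ cnt e F4.w = 3 ∨ cnt e F4.v = 3 then 1
  else if cnt e F4.i = 2 ∧ cnt e F4.w = 2 then 2 else 3

theorem kind_lt (e : Fin 243) : kind e < 4 := by unfold kind; split_ifs <;> omega

/-- the representative of a kind -/
def krep (t : ℕ) : Fin 243 := Fin.ofNat 243 (kindRep.getD t 0)

/-- the permutation of a word -/
def kperm (w : List ℕ) : Equiv.Perm (Fin 6) := (w.map fun s => permG.getD s 1).prod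

theorem kperm_sign : ∀ w : List ℕ, Equiv.Perm.sign (kperm w) = 1
  | [] => map_one _
  | s :: w => by
    rw [kperm, List.map_cons, List.prod_cons, map_mul, ← kperm, kperm_sign w, mul_one]
    have h : ∀ p ∈ permG, Equiv.Perm.sign p = 1 := by decide +kernel
    rcases lt_or_ge s permG.length with hs | hs
    · rw [List.getD_eq_getElem _ _ hs]; exact h _ (List.getElem_mem hs)
    · rw [List.getD_eq_default _ _ hs]; exact map_one _

/-- the scalar of a witness -/
def kscal (c : ℕ) : F4 := if c = 0 then F4.i else if c = 1 then F4.w else F4.v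

theorem kind_wit : ∀ e : Fin 243, ∀ j : Fin 6,
    fv e (kperm (kindWit.getD e.val (0, [])).2 j) = kscal (kindWit.getD e.val (0, [])).1 * fv (krep (kind e)) j := by
  decide +kernel

theorem kind_rot (e : Fin 243) : ∃ p, Equiv.Perm.sign p = 1 ∧ SEq (fv e) (rotV p (fv (krep (kind e)))) := by
  refine ⟨_, kperm_sign (kindWit.getD e.val (0, [])).2, kscal (kindWit.getD e.val (0, [])).1, ?_, fun i => ?_⟩
  · unfold kscal; split_ifs <;> decide
  · have h := kind_wit e ((kperm (kindWit.getD e.val (0, [])).2).symm i)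
    rw [Equiv.apply_symm_apply] at h
    exact h

/-- fixed by the reference involution -/
def fixI (e : Fin 243) : Bool := decide (∀ j, fv e (pI j) = fv e j)

theorem fixI_of_scal : ∀ e : Fin 243, ∀ c ∈ [F4.i, F4.w, F4.v], (∀ j, fv e (pI j) = c * fv e j) → fixI e = true := by
  decide +kernel

theorem count_all : ∀ t : Fin 4, (Finset.univ.filter fun e => kind e = t.val).card = [3, 60, 90, 90].getD t.val 0 := by
  decide +kernel

theorem count_fix : ∀ t : Fin 4,
    (Finset.univ.filter fun e => fixI e = true ∧ kind e = t.val).card = [3, 12, 6, 6].getD t.val 0 := by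
  decide +kernel

theorem kind_zero : ∀ e : Fin 243, kind e = 0 ↔ fv e 0 = fv e 1 ∧ fv e 1 = fv e 2 ∧ fv e 2 = fv e 3 ∧
    fv e 3 = fv e 4 ∧ fv e 4 = fv e 5 := by decide +kernel

theorem kind_zero_iff (e : Fin 243) : kind e = 0 ↔ δ e = 1 := by
  rw [kind_zero, ← δ_zero, δ_eq]
  constructor
  · rintro ⟨h1, h2, h3, h4, h5⟩
    refine ⟨fv e 0, ((decide_eq_true_iff).mp (fv_ok e).1).1 0, fun j => ?_⟩
    rw [fv_zero, mul_one]
    fin_cases j
    exacts [rfl, h1.symm, (h1.trans h2).symm, (h1.trans (h2.trans h3)).symm,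
      (h1.trans (h2.trans (h3.trans h4))).symm, (h1.trans (h2.trans (h3.trans (h4.trans h5)))).symm]
  · rintro ⟨c, -, hj⟩
    simp only [fv_zero, mul_one] at hj
    simp only [hj, and_self]

theorem fix_iff (e : Fin 243) : pi1 iotaK * δ e * (pi1 iotaK)⁻¹ = δ e ↔ fixI e = true := by
  have hs : pI.symm = pI := by decide +kernel
  rw [iota_eq]
  constructor
  · intro h
    have hok : okV (rotV pI (fv e)) = true := by
      have : ∀ e : Fin 243, okV (rotV pI (fv e)) = true := by decide +kernel
      exact this e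
    rw [δ_conj (by decide +kernel) (e := e) (e' := ev (rotV pI (fv e)))
      ⟨1, one_ne_zero, fun i => by rw [fv_ev hok, one_mul]⟩, δ_eq, fv_ev hok] at h
    obtain ⟨c, hc, hj⟩ := h
    refine fixI_of_scal e c ?_ fun j => ?_
    · revert hc; cases c <;> decide
    · simpa [rotV, hs] using hj j
  · intro h
    refine δ_conj (by decide +kernel) ⟨1, one_ne_zero, fun i => ?_⟩
    rw [rotV, hs, one_mul]
    exact ((decide_eq_true_iff).mp h i).symm

/-- The possible counting functions. -/
theorem weights (m : Fin 243 → ℕ)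
    (hm : ∀ p : Equiv.Perm (Fin 6), Equiv.Perm.sign p = 1 → ∀ e e', SEq (fv e') (rotV p (fv e)) → m e' = m e)
    (hfix : ∑ e ∈ Finset.univ.filter (fun e => fixI e = true ∧ kind e ≠ 0), m e = 12) :
    ((∑ e ∈ Finset.univ.filter (fun e => kind e ≠ 0), m e) = 60 ∧ (∀ e, kind e = 1 → m e = 1) ∧
      ∀ e, kind e = 2 ∨ kind e = 3 → m e = 0) ∨ (∑ e ∈ Finset.univ.filter (fun e => kind e ≠ 0), m e) = 180 := by
  have hconst : ∀ e, m e = m (krep (kind e)) := fun e => by
    obtain ⟨p, hp, h⟩ := kind_rot e
    exact hm p hp _ _ h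
  have hsum : ∀ P : Fin 243 → Prop, ∀ [DecidablePred P],
      ∑ e ∈ Finset.univ.filter (fun e => P e ∧ kind e ≠ 0), m e =
        (Finset.univ.filter fun e => P e ∧ kind e = 1).card * m (krep 1) +
        (Finset.univ.filter fun e => P e ∧ kind e = 2).card * m (krep 2) +
        (Finset.univ.filter fun e => P e ∧ kind e = 3).card * m (krep 3) := by
    intro P _
    simp only [Finset.card_filter, Finset.sum_mul, Finset.sum_filter, ← Finset.sum_add_distrib]
    refine Finset.sum_congr rfl fun e _ => ?_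
    by_cases hP : P e
    · have := kind_lt e
      rw [hconst e]
      interval_cases hk : kind e <;> simp [hP]
    · simp [hP]
  have h1 := hsum (fun e => fixI e = true)
  rw [hfix] at h1
  have f1 := count_fix 1
  have f2 := count_fix 2
  have f3 := count_fix 3
  simp only [List.getD_cons_succ, List.getD_cons_zero, Fin.val_one, Fin.val_two,
    show ((3 : Fin 4) : ℕ) = 3 from rfl] at f1 f2 f3
  rw [f1, f2, f3] at h1
  have h2 := hsum (fun _ => True)
  simp only [true_and] at h2
  have a1 := count_all 1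
  have a2 := count_all 2
  have a3 := count_all 3
  simp only [List.getD_cons_succ, List.getD_cons_zero, Fin.val_one, Fin.val_two,
    show ((3 : Fin 4) : ℕ) = 3 from rfl] at a1 a2 a3
  rw [a1, a2, a3] at h2
  rcases (show (m (krep 1) = 1 ∧ m (krep 2) = 0 ∧ m (krep 3) = 0) ∨ (m (krep 1) = 0 ∧ m (krep 2) + m (krep 3) = 2) by
    omega) with ⟨e1, e2, e3⟩ | ⟨e1, e23⟩
  · refine Or.inl ⟨by omega, fun e he => by rw [hconst, he, e1], ?_⟩
    rintro e (he | he) <;> rw [hconst, he] <;> assumption
  · exact Or.inr (by omega)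

/-- the vector of a triple -/
def tripV (a b c : Fin 6) : V6 := fun i => if i = a ∨ i = b ∨ i = c then F4.w else 1

theorem trip_ok : ∀ a b c : Fin 6, a ≠ b → a ≠ c → b ≠ c →
    okV (tripV a b c) = true ∧ kind (ev (tripV a b c)) = 1 := by decide +kernel

/-- An even permutation preserving all partitions into two triples is trivial. -/
theorem trip_perm {p : Equiv.Perm (Fin 6)} (hp : Equiv.Perm.sign p = 1)
    (h : ∀ e, kind e = 1 → ∀ i j, fv e i = fv e j → fv e (p i) = fv e (p j)) : p = 1 := by
  refine Equiv.ext fun a => ?_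
  by_contra hne
  rw [Equiv.Perm.one_apply] at hne
  set b := p a with hb
  have key : ∀ c, c ≠ a → c ≠ b → (p b = a ∨ p b = c) ∧ (p c = a ∨ p c = c) := by
    intro c hca hcb
    obtain ⟨hok, hk⟩ := trip_ok a b c (Ne.symm hne) hca.symm hcb.symm
    have h0 := h _ hk
    rw [fv_ev hok] at h0
    have hin : ∀ x, tripV a b c x = F4.w ↔ (x = a ∨ x = b ∨ x = c) := fun x => by
      unfold tripV; split_ifs with hx
      · simp [hx]
      · simp [hx]
    have hw : ∀ x, tripV a b c x = F4.w → tripV a b c (p x) = F4.w := fun x hx => by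
      rw [h0 x a (hx.trans ((hin a).mpr (Or.inl rfl)).symm), ← hb]
      exact (hin b).mpr (Or.inr (Or.inl rfl))
    refine ⟨?_, ?_⟩
    · rcases (hin _).mp (hw b ((hin b).mpr (Or.inr (Or.inl rfl)))) with e | e | e
      · exact Or.inl e
      · exact absurd (p.injective (e.trans hb)) hne
      · exact Or.inr e
    · rcases (hin _).mp (hw c ((hin c).mpr (Or.inr (Or.inr rfl)))) with e | e | e
      · exact Or.inl e
      · exact absurd (p.injective (e.trans hb)) hca
      · exact Or.inr e
  obtain ⟨c, d, hca, hcb, hda, hdb, hcd⟩ : ∃ c d : Fin 6, c ≠ a ∧ c ≠ b ∧ d ≠ a ∧ d ≠ b ∧ c ≠ d := by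
    have : ∀ a b : Fin 6, ∃ c d : Fin 6, c ≠ a ∧ c ≠ b ∧ d ≠ a ∧ d ≠ b ∧ c ≠ d := by decide
    exact this a b
  have hpb : p b = a := by
    rcases (key c hca hcb).1 with e | e
    · exact e
    rcases (key d hda hdb).1 with e' | e'
    · exact e'
    · exact absurd (e.symm.trans e') hcd
  have hsw : p = Equiv.swap a b := by
    refine Equiv.ext fun x => ?_
    rcases eq_or_ne x a with rfl | hxa
    · rw [Equiv.swap_apply_left]
    rcases eq_or_ne x b with rfl | hxb
    · rw [Equiv.swap_apply_right, hpb]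
    rw [Equiv.swap_apply_of_ne_of_ne hxa hxb]
    rcases (key x hxa hxb).2 with e | e
    · exact absurd (p.injective (e.trans hpb.symm)) hxb
    · exact e
  rw [hsw, Equiv.Perm.sign_swap (Ne.symm hne)] at hp
  exact absurd hp (by decide)

end Cfsg.Agent.Spor.SuzThree
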